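import Cfsg.Agent.Lib.SelfCentEight.Main

/-!
The case of a maximal normal elementary abelian subgroup of order eight, and the main theorem.
-/

set_option autoImplicit false
set_option linter.unusedSectionVars false

namespace CfsgLib.SelfCentEight

open CfsgLib.MacWilliams (sqSub mul_self_mem_sqSub sqSub_le sqSub_mono sqSub_le_iff)

universe u

variable {G : Type u} [Group G] [Finite G]

namespace Data

variable {A N : Subgroup G} (hD : Data A N)
include hD

/-- Order eight, self-centralising. -/
theorem bound_eight_self (h8 : Nat.card N = 8) (hC : Subgroup.centralizer (N : Set G) = N)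
    (B : Subgroup G) : Nat.card B ≤ 16 * Nat.card (sqSub B) := by
  haveI := hD.normal_cent
  have hpos : 0 < Nat.card (sqSub B) := Nat.card_pos
  by_cases hBN : B ≤ N
  · have := Subgroup.card_le_of_le hBN
    omega
  obtain ⟨b, hbB, hbN⟩ := SetLike.not_le_iff_exists.1 hBN
  refine le_of_map (QuotientGroup.mk' (Subgroup.centralizer (N : Set G))) B 4 4
    (quotient_bound hD.pgroup hD.elem h8 _) ?_
  rw [QuotientGroup.ker_mk', hC]
  have hpos' : 0 < Nat.card ↥(sqSub B ⊓ N) := Nat.card_pos
  have hle := Subgroup.card_le_of_le (inf_le_right : B ⊓ N ≤ N)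
  rcases card_cases hD.pgroup (B ⊓ N) with h | h | h | h | h
  any_goals omega
  have heq : B ⊓ N = N := Subgroup.eq_of_le_of_card_ge inf_le_right (by omega)
  obtain ⟨n, hn, hne⟩ := exists_moved hD.elem (hC.symm ▸ hbN : b ∉ _)
  have hnB : n ∈ B := (heq.symm ▸ hn : n ∈ B ⊓ N).1
  have := two_le_card (K := sqSub B ⊓ N)
    ⟨comm_mem_sqSub hbB hnB, hD.elem.comm_mem b hn⟩ hne
  omega

/-- Order eight, with a larger centraliser. -/
theorem bound_eight (h8 : Nat.card N = 8) (hC : Subgroup.centralizer (N : Set G) ≠ N)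
    (B : Subgroup G) : Nat.card B ≤ 16 * Nat.card (sqSub B) := by
  classical
  haveI := Fact.mk Nat.prime_two
  haveI := hD.elem.normal
  haveI := hD.normal_cent
  obtain ⟨t, htA, htC⟩ : ∃ t ∈ A, t ∉ Subgroup.centralizer (N : Set G) := by
    by_contra h
    push Not at h
    exact hC (hD.eq_of_le h).2.2
  obtain ⟨hE4, hCt, hF⟩ := hD.basic htA htC
  set C := Subgroup.centralizer (N : Set G) with hCdef
  set E := N ⊓ Subgroup.centralizer ({t} : Set G) with hEdef
  set R := (hD.elem.delta t N le_rfl).range with hRdef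
  have hR2 : Nat.card R = 2 := by
    have h := hD.elem.card_eq_range_mul t N le_rfl
    rw [← hEdef, hE4, h8, ← hRdef] at h
    omega
  have hRmem : ∀ r ∈ R, ∃ n ∈ N, t * n * t⁻¹ * n⁻¹ = r := by
    rintro _ ⟨⟨n, hn⟩, rfl⟩
    exact ⟨n, hn, rfl⟩
  have hRE : R ≤ E := by
    intro r hr
    obtain ⟨n, hn, rfl⟩ := hRmem r hr
    exact hD.comm_fixed htA (hD.elem.comm_mem t hn)
  have hR1 : ∀ r ∈ R, r ≠ 1 → ∀ a ∈ R, a = 1 ∨ a = r := by
    intro r hr hr1 a ha
    by_contra h
    push Not at h
    have := four_le_card hD.pgroup ha hr h.1 hr1 h.2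
    omega
  -- the element of `C` outside `N`
  have hlt : N < C := lt_of_le_of_ne hD.le_cent (Ne.symm hC)
  obtain ⟨x, hxC, hxN, hx2, hxc⟩ := CfsgLib.PGroup.exists_step hD.pgroup N C hlt
  rw [pow_two] at hx2
  have hxc' : ∀ g : G, g * x * g⁻¹ * x⁻¹ ∈ N := fun g => by
    have := inv_mem (hxc g)
    simpa [commutatorElement_def, mul_inv_rev, mul_assoc] using this
  have hxn : ∀ n ∈ N, x * n = n * x := fun n hn => hD.comm_C hxC hn
  set f0 := x * x with hf0
  have hf0c : ∀ g : G, g * f0 = f0 * g := by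
    intro g
    rw [← mul_inv_eq_iff_eq_mul]
    set m := g * x * g⁻¹ * x⁻¹ with hm
    have hmN : m ∈ N := hxc' g
    calc g * f0 * g⁻¹ = m * x * (m * x) := by rw [hm, hf0]; group
      _ = m * (x * m) * x := by group
      _ = m * (m * x) * x := by rw [hxn m hmN]
      _ = (m * m) * (x * x) := by group
      _ = f0 := by rw [hD.elem.sq m hmN, one_mul]
  have hf01 : f0 ≠ 1 := by
    intro h1
    haveI hKn : (N ⊔ Subgroup.zpowers x).Normal := CfsgLib.PGroup.sup_zpowers_normal hxc
    have hform : ∀ k ∈ N ⊔ Subgroup.zpowers x, ∃ n ∈ N, k = n ∨ k = n * x := by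
      intro k hk
      obtain ⟨n, hn, a, ha, rfl⟩ := Subgroup.mem_sup_of_normal_left.1 hk
      obtain ⟨i, rfl⟩ := Subgroup.mem_zpowers_iff.1 ha
      refine ⟨n, hn, ?_⟩
      rcases Int.even_or_odd' i with ⟨k, rfl | rfl⟩
      · left; rw [zpow_mul, zpow_two, ← hf0, h1, one_zpow, mul_one]
      · right; rw [zpow_add, zpow_mul, zpow_two, ← hf0, h1, one_zpow, one_mul, zpow_one]
    have hsq : ∀ k ∈ N ⊔ Subgroup.zpowers x, k * k = 1 := by
      intro k hk
      obtain ⟨n, hn, rfl | rfl⟩ := hform k hk
      · exact hD.elem.sq k hn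
      · calc n * x * (n * x) = n * (x * n) * x := by group
          _ = n * (n * x) * x := by rw [hxn n hn]
          _ = (n * n) * (x * x) := by group
          _ = 1 := by rw [hD.elem.sq n hn, one_mul, ← hf0, h1]
    have hK : Elem (N ⊔ Subgroup.zpowers x) := by
      refine ⟨hKn, fun a ha b hb => ?_, hsq⟩
      calc a * b = (a * b)⁻¹ := (inv_eq_of_mul_eq_one_right (hsq _ (mul_mem ha hb))).symm
        _ = b⁻¹ * a⁻¹ := mul_inv_rev a b
        _ = b * a := by
          rw [inv_eq_of_mul_eq_one_right (hsq a ha), inv_eq_of_mul_eq_one_right (hsq b hb)]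
    have := hD.nmax _ hK
    rw [CfsgLib.PGroup.card_sup_zpowers (p := 2) hxN (by rw [pow_two]; exact hx2)] at this
    omega
  have hf0N : f0 ∈ N := hx2
  have hf0E : f0 ∈ E := ⟨hf0N, mem_cent.2 (hf0c t).symm⟩
  set f := t * x * t⁻¹ * x⁻¹ with hfdef
  have hfN : f ∈ N := hxc' t
  have hfE : f ∈ E := hD.comm_fixed htA hfN
  have hfR : f ∉ R := by
    intro h
    obtain ⟨n₀, hn₀, he⟩ := hRmem f h
    have h2 := hCt ⟨mul_mem (hD.le_cent hn₀) hxC, hD.adjust htA hn₀ he.symm⟩
    exact hxN (by simpa using mul_mem (inv_mem hn₀) h2)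
  have hf1 : f ≠ 1 := fun h => hfR (h ▸ one_mem R)
  by_cases hw : f0 ∈ R
  · -- `C = N ⟨x⟩`
    haveI hKn : (N ⊔ Subgroup.zpowers x).Normal := CfsgLib.PGroup.sup_zpowers_normal hxc
    set K := N ⊔ Subgroup.zpowers x with hK
    have hxK : x ∈ K := Subgroup.mem_sup_right (Subgroup.mem_zpowers x)
    have hform : ∀ k ∈ K, ∃ n ∈ N, k = n ∨ k = n * x := by
      intro k hk
      obtain ⟨n, hn, a, ha, rfl⟩ := Subgroup.mem_sup_of_normal_left.1 hk
      obtain ⟨i, rfl⟩ := Subgroup.mem_zpowers_iff.1 ha
      rcases Int.even_or_odd' i with ⟨k, rfl | rfl⟩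
      · refine ⟨n * f0 ^ k, mul_mem hn (zpow_mem hf0N k), Or.inl ?_⟩
        rw [zpow_mul, zpow_two, ← hf0]
      · refine ⟨n * f0 ^ k, mul_mem hn (zpow_mem hf0N k), Or.inr ?_⟩
        rw [zpow_add, zpow_mul, zpow_two, ← hf0, zpow_one, mul_assoc]
    have hKC : K ≤ C := sup_le hD.le_cent (Subgroup.zpowers_le.2 hxC)
    have hCK : C = K := by
      by_contra hne
      have hlt2 : K < C := lt_of_le_of_ne hKC (Ne.symm hne)
      obtain ⟨y, hyC, hyK, -, hyc⟩ := CfsgLib.PGroup.exists_step hD.pgroup K C hlt2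
      set g := t * y * t⁻¹ * y⁻¹ with hg
      have hgK : t * y * t⁻¹ * y⁻¹ ∈ K := by
        have := inv_mem (hyc t)
        simpa [commutatorElement_def, mul_inv_rev, mul_assoc] using this
      obtain ⟨n, hn, he | he⟩ := hform g hgK
      · have hgN : t * y * t⁻¹ * y⁻¹ ∈ N := by rw [← hg, he]; exact hn
        by_cases hgR : g ∈ R
        · obtain ⟨n₀, hn₀, hn₀e⟩ := hRmem g hgR
          have h2 := hCt ⟨mul_mem (hD.le_cent hn₀) hyC, hD.adjust htA hn₀ hn₀e.symm⟩
          have h3 : y ∈ N := by simpa using mul_mem (inv_mem hn₀) h2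
          exact hyK (Subgroup.mem_sup_left h3)
        · -- multiply by `x`
          have hgE : g ∈ E := hD.comm_fixed htA hgN
          have hprod : t * (x * y) * t⁻¹ * (x * y)⁻¹ = f * g := by
            calc t * (x * y) * t⁻¹ * (x * y)⁻¹
                = (t * x * t⁻¹ * x⁻¹) * (x * (t * y * t⁻¹ * y⁻¹) * x⁻¹) := by group
              _ = f * g := by rw [hxn _ hgN, mul_inv_cancel_right]
          have hfg : f * g ∈ R := by
            have h4 : f0 ≠ f := fun e => hfR (e ▸ hw)
            rcases four_elems hE4 hf0E hfE (hD.elem.sq f0 hf0N) hf01 hf1 h4 hgE with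
              e | e | e | e
            · exact absurd (e ▸ one_mem R) hgR
            · exact absurd (e ▸ hw) hgR
            · rw [e, hD.elem.sq f hfN]; exact one_mem R
            · rw [e, ← mul_assoc, hf0c f, mul_assoc, hD.elem.sq f hfN, mul_one]; exact hw
          obtain ⟨n₀, hn₀, hn₀e⟩ := hRmem _ hfg
          have h2 := hCt ⟨mul_mem (hD.le_cent hn₀) (mul_mem hxC hyC),
            hD.adjust htA hn₀ (hprod.trans hn₀e.symm)⟩
          have h3 : x * y ∈ N := by simpa using mul_mem (inv_mem hn₀) h2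
          have h4 := mul_mem (inv_mem hxK) (Subgroup.mem_sup_left h3 : x * y ∈ K)
          rw [inv_mul_cancel_left] at h4
          exact hyK h4
      · exfalso
        have hinv := hD.conj_comm htA y
        rw [← hg, he] at hinv
        have htx : t * x * t⁻¹ = f * x := by rw [hfdef]; group
        have h1 : (t * n * t⁻¹ * n⁻¹) * n * f * x = (n * x)⁻¹ := by
          rw [← hinv]
          calc (t * n * t⁻¹ * n⁻¹) * n * f * x = (t * n * t⁻¹) * (f * x) := by group
            _ = (t * n * t⁻¹) * (t * x * t⁻¹) := by rw [htx]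
            _ = _ := by group
        have h2 : (n * x)⁻¹ = n * f0 * x := by
          refine inv_eq_of_mul_eq_one_right ?_
          calc n * x * (n * f0 * x) = n * (x * (n * f0)) * x := by group
            _ = n * ((n * f0) * x) * x := by rw [hxn _ (mul_mem hn hf0N)]
            _ = (n * n) * f0 * (x * x) := by group
            _ = 1 := by
              rw [hD.elem.sq n hn, one_mul, ← hf0, hD.elem.sq f0 hf0N]
        rw [h2] at h1
        have h3 := mul_right_cancel h1
        have hd := hD.elem.comm_mem t hn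
        have h4 : (t * n * t⁻¹ * n⁻¹) * f = f0 := by
          have h5 : n * ((t * n * t⁻¹ * n⁻¹) * f) = n * f0 := by
            rw [← mul_assoc, hD.elem.comm n hn _ hd]; exact h3
          exact mul_left_cancel h5
        refine hfR ?_
        have h6 : f = (t * n * t⁻¹ * n⁻¹) * f0 := by
          rw [← h4, ← mul_assoc, hD.elem.sq _ hd, one_mul]
        rw [h6]
        exact mul_mem ⟨⟨n, hn⟩, rfl⟩ hw
    have hC16 : Nat.card C = 16 := by
      rw [hCK, hK, CfsgLib.PGroup.card_sup_zpowers (p := 2) hxN (by rw [pow_two]; exact hx2), h8]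
    have hsqC : ∀ k ∈ C, k ∉ N → k * k = f0 := by
      intro k hk hkN
      rw [hCK] at hk
      obtain ⟨n, hn, rfl | rfl⟩ := hform k hk
      · exact absurd hn hkN
      · calc n * x * (n * x) = n * (x * n) * x := by group
          _ = n * (n * x) * x := by rw [hxn n hn]
          _ = (n * n) * (x * x) := by group
          _ = f0 := by rw [hD.elem.sq n hn, one_mul]
    have hpos : 0 < Nat.card (sqSub B) := Nat.card_pos
    have hpos' : 0 < Nat.card ↥(sqSub B ⊓ C) := Nat.card_pos
    by_cases hCB : C ≤ B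
    · have hxB : x ∈ B := hCB hxC
      have hNB : N ≤ B := hD.le_cent.trans hCB
      have hinf : B ⊓ C = C := inf_eq_right.2 hCB
      have hsq2 : 2 ≤ Nat.card ↥(sqSub B ⊓ C) :=
        two_le_card ⟨mul_self_mem_sqSub hxB, hD.le_cent hf0N⟩ hf01
      have hfour : ∀ r ∈ sqSub B ⊓ C, r ∉ R → 4 ≤ Nat.card ↥(sqSub B ⊓ C) := fun r hr hrR =>
        four_le_card hD.pgroup hr
          (⟨mul_self_mem_sqSub hxB, hD.le_cent hf0N⟩ : f0 ∈ sqSub B ⊓ C)
          (fun e => hrR (e ▸ one_mem R)) hf01 (fun e => hrR (e ▸ hw))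
      by_cases hbig : ∃ r ∈ sqSub B ⊓ C, r ∉ R
      · obtain ⟨r, hr, hrR⟩ := hbig
        refine le_of_map (QuotientGroup.mk' C) B 4 4 (quotient_bound hD.pgroup hD.elem h8 _) ?_
        rw [QuotientGroup.ker_mk', hinf, hC16]
        have := hfour r hr hrR
        omega
      push Not at hbig
      refine le_of_map (QuotientGroup.mk' C) B 2 8 ?_ ?_
      · -- `B` is properly contained in the stabiliser of `R ≤ N`
        have htB : t ∉ B := fun h => hfR (hbig f
          ⟨comm_mem_sqSub h hxB, hD.le_cent hfN⟩)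
        have hm : ∃ m ∈ N, m ∉ E := by
          by_contra h
          push Not at h
          have := Subgroup.card_le_of_le (show N ≤ E from h)
          omega
        obtain ⟨m, hmN, hmE⟩ := hm
        let T : Subgroup G :=
          { carrier := {s | ∀ n ∈ N, s * n * s⁻¹ * n⁻¹ ∈ R}
            one_mem' := fun n _ => by simp
            mul_mem' := fun {a b} ha hb n hn => by
              have hbn := hb n hn
              have hc : a * (b * n * b⁻¹ * n⁻¹) * a⁻¹ = b * n * b⁻¹ * n⁻¹ := by
                rcases hR1 f0 hw hf01 _ hbn with h | h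
                · rw [h, mul_one, mul_inv_cancel]
                · rw [h, hf0c a, mul_inv_cancel_right]
              have e : a * b * n * (a * b)⁻¹ * n⁻¹ =
                  (b * n * b⁻¹ * n⁻¹) * (a * n * a⁻¹ * n⁻¹) := by
                calc a * b * n * (a * b)⁻¹ * n⁻¹
                    = (a * (b * n * b⁻¹ * n⁻¹) * a⁻¹) * (a * n * a⁻¹ * n⁻¹) := by group
                  _ = _ := by rw [hc]
              rw [e]
              exact mul_mem hbn (ha n hn)
            inv_mem' := fun {a} ha n hn => by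
              have h1 := ha (a⁻¹ * n * a) (by simpa using hD.elem.conj_mem a⁻¹ hn)
              have h2 : n * (a⁻¹ * n * a)⁻¹ ∈ R := by
                simpa [mul_assoc] using h1
              have h3 : a⁻¹ * n * a⁻¹⁻¹ * n⁻¹ = (n * (a⁻¹ * n * a)⁻¹)⁻¹ := by group
              rw [h3]
              exact inv_mem h2 }
        have hBT : B ≤ T := fun b hb n hn =>
          hbig _ ⟨comm_mem_sqSub hb (hNB hn), hD.le_cent (hD.elem.comm_mem b hn)⟩
        have htT : t ∈ T := fun n hn => ⟨⟨n, hn⟩, rfl⟩
        have hT4 : Nat.card (T.map (QuotientGroup.mk' C)) ≤ 4 := by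
          have hsel : ∀ q : T.map (QuotientGroup.mk' C), ∃ s ∈ T, QuotientGroup.mk' C s = q.1 :=
            fun q => q.2
          choose s hsT hsq using hsel
          let φ : T.map (QuotientGroup.mk' C) → R × R := fun q =>
            (⟨s q * f * (s q)⁻¹ * f⁻¹, hsT q f hfN⟩, ⟨s q * m * (s q)⁻¹ * m⁻¹, hsT q m hmN⟩)
          have hinj : Function.Injective φ := by
            intro p q hpq
            have e1 : s p * f * (s p)⁻¹ = s q * f * (s q)⁻¹ :=
              mul_right_cancel (congrArg Subtype.val (congrArg Prod.fst hpq))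
            have e2 : s p * m * (s p)⁻¹ = s q * m * (s q)⁻¹ :=
              mul_right_cancel (congrArg Subtype.val (congrArg Prod.snd hpq))
            set L := N ⊓ (MulAut.conj (s p)).toMonoidHom.eqLocus (MulAut.conj (s q)).toMonoidHom
              with hL
            have hfL : f ∈ L := ⟨hfN, e1⟩
            have hmL : m ∈ L := ⟨hmN, e2⟩
            have hf0L : f0 ∈ L := ⟨hf0N, by
              show s p * f0 * (s p)⁻¹ = s q * f0 * (s q)⁻¹
              rw [hf0c, mul_inv_cancel_right, hf0c, mul_inv_cancel_right]⟩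
            have hEL : E < L := by
              refine lt_of_le_of_ne (fun a ha => ?_) fun h => hmE (h.symm ▸ hmL)
              rcases four_elems hE4 hf0E hfE (hD.elem.sq f0 hf0N) hf01 hf1
                (fun e => hfR (e ▸ hw)) ha with e | e | e | e
              · exact e ▸ one_mem L
              · exact e ▸ hf0L
              · exact e ▸ hfL
              · exact e ▸ mul_mem hf0L hfL
            have hLN : L = N := by
              refine Subgroup.eq_of_le_of_card_ge inf_le_left ?_
              have h1 : 4 < Nat.card L := by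
                by_contra h
                exact hEL.ne (Subgroup.eq_of_le_of_card_ge hEL.le (by omega))
              rcases card_cases hD.pgroup L with h | h | h | h | h <;> omega
            apply Subtype.ext
            rw [← hsq p, ← hsq q]
            refine QuotientGroup.eq.2 (Subgroup.mem_centralizer_iff.2 fun a ha => ?_)
            have : s p * a * (s p)⁻¹ = s q * a * (s q)⁻¹ := (hLN.symm ▸ ha : a ∈ L).2
            calc a * ((s p)⁻¹ * s q) = (s p)⁻¹ * (s p * a * (s p)⁻¹) * s q := by group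
              _ = (s p)⁻¹ * (s q * a * (s q)⁻¹) * s q := by rw [this]
              _ = _ := by group
          refine (Nat.card_le_card_of_injective φ hinj).trans ?_
          rw [Nat.card_prod, hR2]
        have hlt3 : B.map (QuotientGroup.mk' C) < T.map (QuotientGroup.mk' C) := by
          refine lt_of_le_of_ne (Subgroup.map_mono hBT) fun h => htB ?_
          have : QuotientGroup.mk' C t ∈ B.map (QuotientGroup.mk' C) :=
            h ▸ Subgroup.mem_map_of_mem _ htT
          obtain ⟨b, hb, hbe⟩ := this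
          have hbt : b⁻¹ * t ∈ C := QuotientGroup.eq.1 hbe
          simpa using mul_mem hb (hCB hbt)
        have hcard : Nat.card (B.map (QuotientGroup.mk' C)) < 4 := by
          by_contra h
          exact hlt3.ne (Subgroup.eq_of_le_of_card_ge hlt3.le (by omega))
        have hp : 0 < Nat.card (sqSub (B.map (QuotientGroup.mk' C))) := Nat.card_pos
        rcases card_cases (hD.pgroup.to_quotient C) (B.map (QuotientGroup.mk' C)) with
          h | h | h | h | h <;> omega
      · rw [QuotientGroup.ker_mk', hinf, hC16]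
        omega
    · by_cases hBN : B ≤ N
      · have := Subgroup.card_le_of_le hBN
        omega
      obtain ⟨b, hbB, hbN⟩ := SetLike.not_le_iff_exists.1 hBN
      refine le_of_map (QuotientGroup.mk' C) B 4 4 (quotient_bound hD.pgroup hD.elem h8 _) ?_
      rw [QuotientGroup.ker_mk']
      have hle : Nat.card ↥(B ⊓ C) < 16 := by
        by_contra h
        exact hCB (inf_eq_right.1 (Subgroup.eq_of_le_of_card_ge inf_le_right (by omega)))
      rcases card_cases hD.pgroup (B ⊓ C) with h | h | h | h | h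
      any_goals omega
      by_cases hk : B ⊓ C ≤ N
      · have heq : B ⊓ C = N := Subgroup.eq_of_le_of_card_ge hk (by omega)
        have hbC : b ∉ C := fun hb => hbN (heq ▸ (⟨hbB, hb⟩ : b ∈ B ⊓ C))
        obtain ⟨n, hn, hne⟩ := exists_moved hD.elem hbC
        have hnB : n ∈ B := (heq.symm ▸ hn : n ∈ B ⊓ C).1
        have := two_le_card (K := sqSub B ⊓ C)
          ⟨comm_mem_sqSub hbB hnB, hD.le_cent (hD.elem.comm_mem b hn)⟩ hne
        omega
      · obtain ⟨k, hk, hkN⟩ := SetLike.not_le_iff_exists.1 hk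
        have := two_le_card (K := sqSub B ⊓ C) (a := f0)
          ⟨hsqC k hk.2 hkN ▸ mul_self_mem_sqSub hk.1, hD.le_cent hf0N⟩ hf01
        omega
  · -- `A = C(t)` and the quotient has a small centraliser
    obtain ⟨w, hwR, hw1⟩ : ∃ w ∈ R, w ≠ 1 := by
      by_contra h
      push Not at h
      have hle : Nat.card R ≤ 1 := by
        rw [(Subgroup.eq_bot_iff_forall R).2 h, Subgroup.card_bot]
      omega
    have hwE : w ∈ E := hRE hwR
    have hKfix : ∀ s : G, s * t = t * s → ∀ e ∈ E, s * e = e * s := by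
      intro s hst
      have hsw : s * w = w * s := by
        obtain ⟨n, hn, hne⟩ := hRmem w hwR
        have hmem : s * w * s⁻¹ ∈ R := by
          refine ⟨⟨s * n * s⁻¹, hD.elem.conj_mem s hn⟩, ?_⟩
          rw [Elem.delta_apply, ← hne]
          have h1 : s⁻¹ * t = t * s⁻¹ := by
            rw [inv_mul_eq_iff_eq_mul, ← mul_assoc, hst, mul_inv_cancel_right]
          calc t * (s * n * s⁻¹) * t⁻¹ * (s * n * s⁻¹)⁻¹
              = (t * s) * n * (s⁻¹ * t⁻¹) * s * n⁻¹ * s⁻¹ := by group
            _ = (s * t) * n * (t⁻¹ * s⁻¹) * s * n⁻¹ * s⁻¹ := by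
                rw [hst, hD.t_inv htA, h1]
            _ = _ := by group
        rcases hR1 w hwR hw1 _ hmem with h | h
        · exact absurd (conj_eq_one_iff.1 h) hw1
        · exact mul_inv_eq_iff_eq_mul.1 h
      intro e he
      rcases four_elems hE4 hwE hf0E (hD.elem.sq w hwE.1) hw1 hf01
        (fun h => hw (h ▸ hwR)) he with h | h | h | h
      · rw [h, mul_one, one_mul]
      · rw [h, hsw]
      · rw [h, hf0c s]
      · rw [h, ← mul_assoc, hsw, mul_assoc, hf0c s, ← mul_assoc]
    have hEA : E ≤ A ⊓ C := fun e he => ⟨hD.mem_A fun a ha =>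
      (hKfix a (hD.acomm a ha t htA) e he).symm, hD.le_cent he.1⟩
    obtain ⟨hF4, hEF⟩ : Nat.card ↥(A ⊓ C) = 4 ∧ E = A ⊓ C := by
      rcases hF with h | h
      · exact h
      · have := Subgroup.card_le_of_le hEA
        omega
    have hKA : ∀ s : G, s * t = t * s → s ∈ A := fun s hst =>
      hD.mem_of_four htA htC hF4 hst fun e he => hKfix s hst e (hEF.symm ▸ he)
    have hxcc : (x : G ⧸ N) ∈ Subgroup.center (G ⧸ N) := by
      rw [Subgroup.mem_center_iff]
      intro q
      obtain ⟨g, rfl⟩ := QuotientGroup.mk'_surjective N q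
      have h := (QuotientGroup.eq_one_iff _).2 (hxc' g)
      rw [QuotientGroup.mk_mul, QuotientGroup.mk_mul, QuotientGroup.mk_mul, QuotientGroup.mk_inv,
        QuotientGroup.mk_inv, mul_inv_eq_one, mul_inv_eq_iff_eq_mul] at h
      exact h
    have hx4 : Nat.card (Subgroup.centralizer ({(t : G ⧸ N)} : Set (G ⧸ N))) ≤ 4 := by
      set M := A.map (QuotientGroup.mk' N) with hM
      have hM2 : Nat.card M ≤ 2 := by
        have h1 := card_eq_map_mul_inf (QuotientGroup.mk' N) A
        rw [QuotientGroup.ker_mk', hD.a8, ← hM] at h1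
        have h2 : 4 ≤ Nat.card ↥(A ⊓ N) := hE4 ▸ Subgroup.card_le_of_le
          (fun e he => (⟨(hEA he).1, he.1⟩ : e ∈ A ⊓ N))
        by_contra h
        have := Nat.mul_le_mul (not_le.1 h) h2
        omega
      have hsub : ((Subgroup.centralizer ({(t : G ⧸ N)} : Set (G ⧸ N))) : Set (G ⧸ N)) ⊆
          (M : Set (G ⧸ N)) ∪ (fun a => (x : G ⧸ N)⁻¹ * a) '' (M : Set (G ⧸ N)) := by
        intro q hq
        obtain ⟨s, rfl⟩ := QuotientGroup.mk'_surjective N q
        have hsN : t * s * t⁻¹ * s⁻¹ ∈ N := hD.comm_mem_of_quot (mem_cent.1 hq)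
        have hgE : t * s * t⁻¹ * s⁻¹ ∈ E := hD.comm_fixed htA hsN
        have hadj : ∀ y : G, t * y * t⁻¹ * y⁻¹ ∈ R → QuotientGroup.mk' N y ∈ M := by
          intro y hy
          obtain ⟨n₀, hn₀, hn₀e⟩ := hRmem _ hy
          refine ⟨n₀ * y, hKA _ (mem_cent.1 (hD.adjust htA hn₀ hn₀e.symm)), ?_⟩
          simp [(QuotientGroup.eq_one_iff n₀).2 hn₀]
        by_cases hsR : t * s * t⁻¹ * s⁻¹ ∈ R
        · exact Or.inl (hadj s hsR)
        · refine Or.inr ⟨QuotientGroup.mk' N (x * s), hadj _ ?_, by simp⟩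
          have hprod : t * (x * s) * t⁻¹ * (x * s)⁻¹ = f * (t * s * t⁻¹ * s⁻¹) := by
            calc t * (x * s) * t⁻¹ * (x * s)⁻¹
                = (t * x * t⁻¹ * x⁻¹) * (x * (t * s * t⁻¹ * s⁻¹) * x⁻¹) := by group
              _ = _ := by rw [hxn _ hsN, mul_inv_cancel_right]
          rw [hprod]
          have hwf : w ≠ f := fun e => hfR (e ▸ hwR)
          rcases four_elems hE4 hwE hfE (hD.elem.sq w hwE.1) hw1 hf1 hwf hgE with
            e | e | e | e
          · exact absurd (e ▸ one_mem R) hsR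
          · exact absurd (e ▸ hwR) hsR
          · rw [e, hD.elem.sq f hfN]; exact one_mem R
          · rw [e, ← mul_assoc, hD.elem.comm f hfN w hwE.1, mul_assoc, hD.elem.sq f hfN, mul_one]
            exact hwR
      have h1 := (Set.ncard_le_ncard hsub (Set.toFinite _)).trans (Set.ncard_union_le _ _)
      rw [Set.ncard_image_of_injective _ (mul_right_injective _), ← Nat.card_coe_set_eq,
        ← Nat.card_coe_set_eq] at h1
      simp only [SetLike.coe_sort_coe] at h1
      omega
    refine bound_central hD.elem (by omega) (small_bound (hD.pgroup.to_quotient N) _ hx4) x hxN hx2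
      hxcc (fun B b hb hbx => ?_) (fun B b hb _ => ?_) B
    · have hbb : b * b = f0 := by
        calc b * b = ((b * x⁻¹) * x) * ((b * x⁻¹) * x) := by group
          _ = (b * x⁻¹) * (x * (b * x⁻¹)) * x := by group
          _ = (b * x⁻¹) * ((b * x⁻¹) * x) * x := by rw [hxn _ hbx]
          _ = ((b * x⁻¹) * (b * x⁻¹)) * (x * x) := by group
          _ = f0 := by rw [hD.elem.sq _ hbx, one_mul]
      have := two_le_card (K := sqSub B ⊓ N) (a := f0) ⟨hbb ▸ mul_self_mem_sqSub hb, hf0N⟩ hf01
      have := Subgroup.card_le_of_le (inf_le_right : B ⊓ N ≤ N)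
      omega
    · have := Subgroup.card_le_of_le (inf_le_right : B ⊓ N ≤ N)
      have : 0 < Nat.card ↥(sqSub B ⊓ N) := Nat.card_pos
      omega

end Data

/-- Harada: a 2-group with a self-centralising elementary abelian subgroup of order eight has
sectional rank at most four. -/
theorem sectional_eight (hG : IsPGroup 2 G) (A : Subgroup G) (aelem : ∀ a ∈ A, a * a = 1)
    (acomm : ∀ a ∈ A, ∀ b ∈ A, a * b = b * a) (a8 : Nat.card A = 8)
    (selfc : Subgroup.centralizer (A : Set G) = A) : Cfsg.SectionalPRankLE 2 4 G := by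
  refine sectional_of_bound ?_
  by_cases hs : ∀ E : Subgroup G, Elem E → Nat.card E ≤ 4
  · exact CfsgLib.MacWilliams.card_le_sixteen_mul_sqSub hG fun E hn hc he => hs E
      ⟨hn, fun a ha b hb => congrArg Subtype.val (hc.is_comm.comm ⟨a, ha⟩ ⟨b, hb⟩),
        fun a ha => by rw [← pow_two]; exact he a ha⟩
  push Not at hs
  obtain ⟨E₀, hE₀, hE₀4⟩ := hs
  obtain ⟨N, hN, hmax⟩ := Set.exists_max_image {K : Subgroup G | Elem K}
    (fun K => Nat.card K) (Set.toFinite _) ⟨E₀, hE₀⟩
  have h4 : 4 < Nat.card N := hE₀4.trans_le (hmax E₀ hE₀)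
  have h8 : 8 ≤ Nat.card N := by
    rcases card_cases hG N with h | h | h | h | h <;> omega
  have hD : Data A N := ⟨hG, aelem, acomm, a8, selfc, hN, h8, hmax⟩
  have h16 : Nat.card N ≤ 16 := by
    by_cases h : A ≤ Subgroup.centralizer (N : Set G)
    · have := (hD.eq_of_le h).2.1
      omega
    obtain ⟨t, htA, htC⟩ := SetLike.not_le_iff_exists.1 h
    have := hN.card_le_mul_self t fun n _ => hD.t_sq htA n
    rw [(hD.basic htA htC).1] at this
    omega
  intro B
  by_cases h : Nat.card N = 8
  · by_cases hC : Subgroup.centralizer (N : Set G) = N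
    · exact hD.bound_eight_self h hC B
    · exact hD.bound_eight h hC B
  · refine hD.bound_sixteen ?_ B
    rcases card_cases hG N with h' | h' | h' | h' | h' <;> omega

end CfsgLib.SelfCentEight
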