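import Cfsg.Agent.Lib.SelfCentEight.Basic

/-!
Two-groups with a small element centraliser, and automorphism groups of a normal elementary
abelian group of order eight.
-/

set_option autoImplicit false
set_option linter.unusedSectionVars false

namespace CfsgLib.SelfCentEight

open CfsgLib.MacWilliams (sqSub mul_self_mem_sqSub sqSub_le sqSub_mono sqSub_le_iff)

universe u

/-- Centralisers do not grow modulo a central subgroup of order two. -/
theorem card_centralizer_quotient_le {G : Type u} [Group G] [Finite G] (Z : Subgroup G) [Z.Normal]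
    (hZ : Z ≤ Subgroup.center G) (x : G) :
    Nat.card (Subgroup.centralizer ({(x : G ⧸ Z)} : Set (G ⧸ Z))) ≤
      Nat.card (Subgroup.centralizer ({x} : Set G)) := by
  set D := (Subgroup.centralizer ({(x : G ⧸ Z)} : Set (G ⧸ Z))).comap (QuotientGroup.mk' Z)
  have hz : ∀ d : D, (d : G) * x * (d : G)⁻¹ * x⁻¹ ∈ Z := by
    intro d
    have h : ((d : G) : G ⧸ Z) * (x : G ⧸ Z) = (x : G ⧸ Z) * ((d : G) : G ⧸ Z) := mem_cent.1 d.2
    rw [← QuotientGroup.eq_one_iff, QuotientGroup.mk_mul, QuotientGroup.mk_mul,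
      QuotientGroup.mk_mul, QuotientGroup.mk_inv, QuotientGroup.mk_inv, h]
    group
  let f : D →* Z :=
    { toFun := fun d => ⟨(d : G) * x * (d : G)⁻¹ * x⁻¹, hz d⟩
      map_one' := Subtype.ext (by simp)
      map_mul' := fun a b => Subtype.ext (by
        show ((a * b : D) : G) * x * ((a * b : D) : G)⁻¹ * x⁻¹ =
          (a : G) * x * (a : G)⁻¹ * x⁻¹ * ((b : G) * x * (b : G)⁻¹ * x⁻¹)
        have hc := Subgroup.mem_center_iff.1 (hZ (hz b))
        calc ((a * b : D) : G) * x * ((a * b : D) : G)⁻¹ * x⁻¹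
            = (a : G) * ((b : G) * x * (b : G)⁻¹ * x⁻¹) * (x * (a : G)⁻¹ * x⁻¹) := by
              rw [Subgroup.coe_mul]; group
          _ = ((b : G) * x * (b : G)⁻¹ * x⁻¹) * ((a : G) * x * (a : G)⁻¹ * x⁻¹) := by
              rw [hc (a : G)]; group
          _ = _ := (hc _).symm) }
  have hker : f.ker = (D ⊓ Subgroup.centralizer ({x} : Set G)).subgroupOf D := by
    ext d
    rw [MonoidHom.mem_ker, Subgroup.mem_subgroupOf, Subgroup.mem_inf, mem_cent, Subtype.ext_iff]
    show (d : G) * x * (d : G)⁻¹ * x⁻¹ = 1 ↔ _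
    rw [mul_inv_eq_one, mul_inv_eq_iff_eq_mul]
    exact ⟨fun h => ⟨d.2, h⟩, fun h => h.2⟩
  have h1 := Subgroup.card_eq_card_quotient_mul_card_subgroup f.ker
  rw [Nat.card_congr (QuotientGroup.quotientKerEquivRange f).toEquiv, hker,
    Nat.card_congr (Subgroup.subgroupOfEquivOfLe inf_le_left).toEquiv] at h1
  have h2 := card_eq_map_mul_inf (QuotientGroup.mk' Z) D
  rw [Subgroup.map_comap_eq_self_of_surjective (QuotientGroup.mk'_surjective Z),
    QuotientGroup.ker_mk'] at h2
  have hZD : D ⊓ Z = Z := inf_eq_right.2 fun z hz => mem_cent.2 (by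
    rw [QuotientGroup.mk'_apply, (QuotientGroup.eq_one_iff z).2 hz, one_mul, mul_one])
  rw [hZD] at h2
  have h3 : Nat.card D ≤ Nat.card Z * Nat.card (Subgroup.centralizer ({x} : Set G)) := by
    rw [h1]
    exact Nat.mul_le_mul (f.range.card_le_card_group) (Subgroup.card_le_of_le inf_le_right)
  rw [h2, mul_comm] at h3
  exact Nat.le_of_mul_le_mul_left h3 Nat.card_pos

/-- A 2-group with an element whose centraliser has order at most four has a cyclic subgroup of
index at most two or has order at most four. -/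
theorem exists_cyclic {G : Type u} [Group G] [Finite G] (hG : IsPGroup 2 G) (x : G)
    (hx : Nat.card (Subgroup.centralizer ({x} : Set G)) ≤ 4) :
    Nat.card G ≤ 4 ∨ ∃ y : G, (Subgroup.zpowers y).index ≤ 2 := by
  haveI := Fact.mk Nat.prime_two
  suffices H : ∀ (n : ℕ) (G : Type u) [Group G] [Finite G], Nat.card G = n → IsPGroup 2 G →
      ∀ x : G, Nat.card (Subgroup.centralizer ({x} : Set G)) ≤ 4 →
      Nat.card G ≤ 4 ∨ ∃ y : G, (Subgroup.zpowers y).index ≤ 2 from H _ G rfl hG x hx
  clear hx x hG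
  intro n
  induction n using Nat.strong_induction_on with
  | _ n ih =>
  intro G _ _ hn hG x hx
  subst hn
  by_cases h4 : Nat.card G ≤ 4
  · exact Or.inl h4
  refine Or.inr ?_
  haveI : Nontrivial G := Finite.one_lt_card_iff_nontrivial.1 (by omega)
  -- not abelian
  have hnab : ¬ ∀ g : G, g * x = x * g := by
    intro h
    refine h4 (le_trans ?_ hx)
    rw [← Subgroup.card_top]
    exact Subgroup.card_le_of_le fun g _ => mem_cent.2 (h g)
  -- orders up to eight
  have hsmall : Nat.card G ≤ 8 → Nat.card G = 8 := by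
    intro hle
    obtain ⟨k, hk⟩ := hG.exists_card_eq
    have h3 : k ≤ 3 := (Nat.pow_le_pow_iff_right (a := 2) (by norm_num)).1 (by omega)
    interval_cases k <;> omega
  -- groups of order eight
  have h8 : Nat.card G = 8 → ∃ y : G, (Subgroup.zpowers y).index ≤ 2 := by
    intro h8
    obtain ⟨y, hy⟩ : ∃ y : G, y * y ≠ 1 := by
      by_contra h
      simp only [ne_eq, not_exists, not_not] at h
      refine hnab fun g => ?_
      calc g * x = (g * x)⁻¹ := (inv_eq_of_mul_eq_one_right (h (g * x))).symm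
        _ = x⁻¹ * g⁻¹ := mul_inv_rev g x
        _ = x * g := by
          rw [inv_eq_of_mul_eq_one_right (h x), inv_eq_of_mul_eq_one_right (h g)]
    refine ⟨y, ?_⟩
    have h1 := (Subgroup.zpowers y).card_mul_index
    have h2 : 4 ≤ Nat.card (Subgroup.zpowers y) :=
      four_le_card hG (Subgroup.mem_zpowers y) (Subgroup.mul_mem _ (Subgroup.mem_zpowers y)
        (Subgroup.mem_zpowers y)) (fun e => hy (by rw [e, one_mul])) hy
        (fun e => hy (by
          have hy1 : y = 1 := by simpa using e.symm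
          rw [hy1, one_mul]))
    rw [h8] at h1
    nlinarith
  obtain ⟨z, -, hzc, hzo⟩ := CfsgLib.PGroup.exists_central_orderOf_eq hG (⊤ : Subgroup G) top_ne_bot
  have hzz0 : z * z = 1 := by rw [← pow_two, ← hzo]; exact pow_orderOf_eq_one z
  set Z := Subgroup.zpowers z with hZdef
  have hZc : Z ≤ Subgroup.center G := Subgroup.zpowers_le.2 hzc
  haveI hZn : Z.Normal := ⟨fun a ha g => by
    rw [Subgroup.mem_center_iff.1 (hZc ha) g, mul_inv_cancel_right]; exact ha⟩
  have hZ2 : Nat.card Z = 2 := by rw [hZdef, Nat.card_zpowers, hzo]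
  have hGc := Subgroup.card_eq_card_quotient_mul_card_subgroup Z
  rw [hZ2] at hGc
  have hQpos : 0 < Nat.card (G ⧸ Z) := Nat.card_pos
  rcases ih (Nat.card (G ⧸ Z)) (by omega) (G ⧸ Z) rfl (hG.to_quotient Z) (x : G ⧸ Z)
    ((card_centralizer_quotient_le Z hZc x).trans hx) with hq | ⟨q, hq⟩
  · exact h8 (hsmall (by omega))
  obtain ⟨y, rfl⟩ := QuotientGroup.mk'_surjective Z q
  set M := (Subgroup.zpowers (QuotientGroup.mk' Z y)).comap (QuotientGroup.mk' Z) with hM
  have hMi : M.index ≤ 2 := by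
    rwa [hM, Subgroup.index_comap_of_surjective _ (QuotientGroup.mk'_surjective Z)]
  have hMmem : ∀ m ∈ M, ∃ (i : ℤ), ∃ w ∈ Z, m = y ^ i * w := by
    intro m hm
    obtain ⟨i, hi⟩ := Subgroup.mem_zpowers_iff.1 hm
    refine ⟨i, (y ^ i)⁻¹ * m, ?_, by group⟩
    rw [← QuotientGroup.eq]
    simpa using hi
  have hyM : y ∈ M := Subgroup.mem_zpowers _
  have hzM : z ∈ M := by
    show QuotientGroup.mk' Z z ∈ Subgroup.zpowers _
    simp only [QuotientGroup.mk'_apply]
    rw [(QuotientGroup.eq_one_iff z).2 (Subgroup.mem_zpowers z)]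
    exact one_mem _
  by_cases hzy : z ∈ Subgroup.zpowers y
  · refine ⟨y, ?_⟩
    have : M = Subgroup.zpowers y := by
      refine le_antisymm (fun m hm => ?_) (Subgroup.zpowers_le.2 hyM)
      obtain ⟨i, w, hw, rfl⟩ := hMmem m hm
      exact mul_mem (Subgroup.zpow_mem _ (Subgroup.mem_zpowers y) i) (Subgroup.zpowers_le.2 hzy hw)
    rwa [← this]
  have hMab : ∀ a ∈ M, ∀ b ∈ M, a * b = b * a := by
    intro a ha b hb
    obtain ⟨i, w, hw, rfl⟩ := hMmem a ha
    obtain ⟨j, v, hv, rfl⟩ := hMmem b hb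
    have hw' := Subgroup.mem_center_iff.1 (hZc hw)
    have hv' := Subgroup.mem_center_iff.1 (hZc hv)
    calc y ^ i * w * (y ^ j * v) = y ^ i * (w * y ^ j) * v := by group
      _ = y ^ i * (y ^ j * w) * v := by rw [← hw']
      _ = y ^ j * y ^ i * (w * v) := by group
      _ = y ^ j * y ^ i * (v * w) := by rw [← hw' v]
      _ = y ^ j * (y ^ i * v) * w := by group
      _ = y ^ j * (v * y ^ i) * w := by rw [hv']
      _ = _ := by group
  by_cases hM4 : Nat.card M ≤ 4
  · exact h8 (hsmall (M.card_mul_index ▸ (Nat.mul_le_mul hM4 hMi)))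
  push Not at hM4
  -- x lies outside M
  have hxM : x ∉ M := fun hxM => by
    have : M ≤ Subgroup.centralizer ({x} : Set G) := fun m hm => mem_cent.2 (hMab m hm x hxM)
    have := (Subgroup.card_le_of_le this).trans hx
    omega
  have hM2 : M.index = 2 := by
    have := Subgroup.index_ne_zero_of_finite (H := M)
    rcases Nat.lt_or_ge M.index 2 with h | h
    · exact absurd ((Subgroup.index_eq_one.1 (show M.index = 1 by omega)).symm ▸ Subgroup.mem_top x) hxM
    · omega
  haveI hMn : M.Normal := Subgroup.normal_of_index_eq_two hM2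
  obtain ⟨m, hm⟩ := hG y
  obtain ⟨m, hy1, hy2⟩ : ∃ m, y ^ 2 ^ (m + 1) = 1 ∧ y ^ 2 ^ m ≠ 1 := by
    have hy : y ≠ 1 := by
      rintro rfl
      have : M ≤ Z := fun a ha => by
        obtain ⟨i, w, hw, rfl⟩ := hMmem a ha; simpa using hw
      have := Subgroup.card_le_of_le this
      omega
    classical
    have hex : ∃ m, y ^ 2 ^ m = 1 := ⟨m, hm⟩
    obtain ⟨k, hk⟩ : ∃ k, Nat.find hex = k + 1 :=
      ⟨Nat.find hex - 1, by
        have : Nat.find hex ≠ 0 := fun h0 => hy (by simpa [h0] using Nat.find_spec hex)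
        omega⟩
    exact ⟨k, hk ▸ Nat.find_spec hex, Nat.find_min hex (by omega)⟩
  have hm0 : m ≠ 0 := by
    rintro rfl
    have hy' : y * y = 1 := by simpa [pow_succ] using hy1
    have hle : Subgroup.zpowers y ⊔ Z ≥ M := fun a ha => by
      obtain ⟨i, w, hw, rfl⟩ := hMmem a ha
      exact Subgroup.mul_mem_sup (Subgroup.zpow_mem _ (Subgroup.mem_zpowers y) i) hw
    have hc : Nat.card (Z ⊔ Subgroup.zpowers y : Subgroup G) = 2 * Nat.card Z :=
      CfsgLib.PGroup.card_sup_zpowers (p := 2)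
        (fun h => by
          rcases Subgroup.mem_zpowers_iff.1 h with ⟨i, hi⟩
          rcases Int.even_or_odd' i with ⟨k, rfl | rfl⟩
          · rw [zpow_mul, zpow_two, hzz0, one_zpow] at hi
            exact hy2 (by rw [← hi, one_pow])
          · rw [zpow_add, zpow_mul, zpow_two, hzz0, one_zpow, one_mul, zpow_one] at hi
            exact hzy (hi ▸ Subgroup.mem_zpowers z))
        (by rw [pow_two, hy']; exact one_mem _)
    have := Subgroup.card_le_of_le hle
    rw [sup_comm, hc] at this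
    omega
  set v := y ^ 2 ^ m with hv
  -- v is fixed by x
  obtain ⟨i, w, hw, hconj⟩ := hMmem _ (hMn.conj_mem y hyM x)
  have hw2 : w ^ 2 = 1 := by
    obtain ⟨j, rfl⟩ := Subgroup.mem_zpowers_iff.1 hw
    rw [← zpow_natCast, ← zpow_mul, mul_comm, zpow_mul, zpow_natCast,
      show z ^ 2 = 1 by rw [← hzo]; exact pow_orderOf_eq_one z, one_zpow]
  have hxv : x * v * x⁻¹ = v := by
    rw [hv, ← conj_pow, hconj,
      (show Commute (y ^ i) w from Subgroup.mem_center_iff.1 (hZc hw) (y ^ i)).mul_pow]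
    have hwp : w ^ 2 ^ m = 1 := by
      obtain ⟨k, rfl⟩ : ∃ k, m = k + 1 := ⟨m - 1, by omega⟩
      rw [pow_succ', pow_mul, hw2, one_pow]
    rw [hwp, mul_one]
    rcases Int.even_or_odd' i with ⟨k, rfl | rfl⟩
    · exfalso
      have h1 : (x * y * x⁻¹) ^ 2 ^ m = 1 := by
        rw [hconj, (show Commute (y ^ (2 * k)) w from Subgroup.mem_center_iff.1 (hZc hw) _).mul_pow, hwp,
          mul_one, ← zpow_natCast, ← zpow_mul,
          show 2 * k * ((2 ^ m : ℕ) : ℤ) = ((2 ^ (m + 1) : ℕ) : ℤ) * k by push_cast; ring,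
          zpow_mul, zpow_natCast, hy1, one_zpow]
      rw [conj_pow, conj_eq_one_iff] at h1
      exact hy2 h1
    · rw [← zpow_natCast, ← zpow_mul,
        show (2 * k + 1) * ((2 ^ m : ℕ) : ℤ) =
          ((2 ^ (m + 1) : ℕ) : ℤ) * k + ((2 ^ m : ℕ) : ℤ) by push_cast; ring,
        zpow_add, zpow_mul, zpow_natCast, zpow_natCast, hy1, one_zpow, one_mul]
  -- so the centraliser of x is too big
  exfalso
  have hz1 : z ≠ 1 := fun h => by rw [h, orderOf_one] at hzo; omega
  have hvz : v ≠ z := fun h => hzy (h ▸ Subgroup.npow_mem_zpowers y _)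
  set F := M ⊓ Subgroup.centralizer ({x} : Set G)
  have hF : 4 ≤ Nat.card F := four_le_card hG (a := v) (b := z)
    ⟨pow_mem hyM _, mem_cent.2 (mul_inv_eq_iff_eq_mul.1 hxv).symm⟩
    ⟨hzM, mem_cent.2 (Subgroup.mem_center_iff.1 hzc x).symm⟩ hy2 hz1 hvz
  have hlt : Nat.card F < Nat.card (Subgroup.centralizer ({x} : Set G)) := by
    refine lt_of_le_of_ne (Subgroup.card_le_of_le inf_le_right) fun h => hxM ?_
    have he : F = Subgroup.centralizer ({x} : Set G) :=
      Subgroup.eq_of_le_of_card_ge inf_le_right h.ge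
    have hxF : x ∈ F := by rw [he]; exact mem_cent.2 rfl
    exact hxF.1
  omega

/-- Every subgroup of a 2-group with a centraliser of order at most four is generated by two
elements. -/
theorem small_bound {G : Type u} [Group G] [Finite G] (hG : IsPGroup 2 G) (x : G)
    (hx : Nat.card (Subgroup.centralizer ({x} : Set G)) ≤ 4) (B : Subgroup G) :
    Nat.card B ≤ 4 * Nat.card (sqSub B) := by
  have hpos : 0 < Nat.card (sqSub B) := Nat.card_pos
  rcases exists_cyclic hG x hx with h | ⟨y, hy⟩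
  · have := B.card_le_card_group
    omega
  set M := Subgroup.zpowers y
  have h1 : M.relIndex B ≤ 2 := by
    have h := Subgroup.relIndex_le_of_le_right (H := M) (le_top : B ≤ ⊤)
      (by rw [Subgroup.relIndex_top_right]; exact Subgroup.index_ne_zero_of_finite)
    rw [Subgroup.relIndex_top_right] at h
    exact h.trans hy
  have h2 : Nat.card ↥(B ⊓ M) * M.relIndex B = Nat.card B := by
    have h := (M.subgroupOf B).card_mul_index
    rwa [← Subgroup.inf_subgroupOf_left,
      Nat.card_congr (Subgroup.subgroupOfEquivOfLe inf_le_left).toEquiv,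
      Subgroup.inf_subgroupOf_left] at h
  have h3 : Nat.card ↥(B ⊓ M) ≤ 2 * Nat.card (sqSub B) := by
    haveI : IsCyclic ↥(B ⊓ M) :=
      isCyclic_of_injective (Subgroup.inclusion inf_le_right) (Subgroup.inclusion_injective _)
    obtain ⟨g, hg⟩ := IsCyclic.exists_ofOrder_eq_natCard (α := ↥(B ⊓ M))
    have hsq : (g : G) * g ∈ sqSub B := mul_self_mem_sqSub g.2.1
    have h4 : orderOf ((g : G) ^ 2) ≤ Nat.card (sqSub B) := by
      rw [← Nat.card_zpowers]
      exact Subgroup.card_le_of_le (Subgroup.zpowers_le.2 (by rw [pow_two]; exact hsq))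
    rw [← hg, ← Subgroup.orderOf_coe]
    have h5 : orderOf (g : G) ∣ 2 * orderOf ((g : G) ^ 2) :=
      orderOf_dvd_of_pow_eq_one (by rw [pow_mul, pow_orderOf_eq_one])
    have := Nat.le_of_dvd (Nat.mul_pos two_pos (orderOf_pos _)) h5
    omega
  calc Nat.card B = Nat.card ↥(B ⊓ M) * M.relIndex B := h2.symm
    _ ≤ (2 * Nat.card (sqSub B)) * 2 := Nat.mul_le_mul h3 h1
    _ = _ := by ring

section Eight

variable {G : Type u} [Group G] [Finite G] {N : Subgroup G}

/-- The action on a normal elementary abelian group of order eight: at most eight elements, and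
non-commutative when there are eight. -/
theorem quotient_small (hG : IsPGroup 2 G) (hN : Elem N) (h8 : Nat.card N = 8)
    [(Subgroup.centralizer (N : Set G)).Normal] :
    Nat.card (G ⧸ Subgroup.centralizer (N : Set G)) ≤ 8 ∧
      (Nat.card (G ⧸ Subgroup.centralizer (N : Set G)) = 8 →
        ∃ a b : G ⧸ Subgroup.centralizer (N : Set G), a * b ≠ b * a) := by
  haveI := Fact.mk Nat.prime_two
  haveI := hN.normal
  set C := Subgroup.centralizer (N : Set G)
  have hne : N ≠ ⊥ := fun h => by rw [h, Subgroup.card_bot] at h8; omega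
  obtain ⟨z, hzN, hzc, hzo⟩ := CfsgLib.PGroup.exists_central_orderOf_eq hG N hne
  have hz := Subgroup.mem_center_iff.1 hzc
  set Z := Subgroup.zpowers z with hZ
  have hZc : Nat.card Z = 2 := by rw [hZ, Nat.card_zpowers, hzo]
  haveI : Z.Normal := ⟨fun a ha g => by
    rw [Subgroup.mem_center_iff.1 (Subgroup.zpowers_le.2 hzc ha) g, mul_inv_cancel_right]
    exact ha⟩
  have hlt : Z < N := lt_of_le_of_ne (Subgroup.zpowers_le.2 hzN) fun h => by
    rw [h] at hZc; omega
  obtain ⟨p, hpN, hpZ, hp2, hpc⟩ := CfsgLib.PGroup.exists_step hG Z N hlt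
  set P := Z ⊔ Subgroup.zpowers p with hP
  haveI : P.Normal := CfsgLib.PGroup.sup_zpowers_normal hpc
  have hPc : Nat.card P = 4 := by
    rw [hP, CfsgLib.PGroup.card_sup_zpowers (p := 2) hpZ hp2, hZc]
  have hPN : P ≤ N := sup_le hlt.le (Subgroup.zpowers_le.2 hpN)
  obtain ⟨n, hnN, hnP⟩ : ∃ n ∈ N, n ∉ P := by
    by_contra h
    push Not at h
    have := Subgroup.card_le_of_le (show N ≤ P from h)
    omega
  have hgen : P ⊔ Subgroup.zpowers n = N := by
    refine Subgroup.eq_of_le_of_card_ge (sup_le hPN (Subgroup.zpowers_le.2 hnN)) (le_of_eq ?_)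
    rw [CfsgLib.PGroup.card_sup_zpowers (p := 2) hnP
      (by rw [pow_two, hN.sq n hnN]; exact one_mem _), hPc, h8]
  -- conjugations agreeing on p and n agree on N
  have hagree : ∀ g h : G, g * p * g⁻¹ = h * p * h⁻¹ → g * n * g⁻¹ = h * n * h⁻¹ →
      ∀ a ∈ N, g * a * g⁻¹ = h * a * h⁻¹ := by
    intro g h e1 e2
    let E := (MulAut.conj g).toMonoidHom.eqLocus (MulAut.conj h).toMonoidHom
    have hz' : z ∈ E := by
      show g * z * g⁻¹ = h * z * h⁻¹
      rw [hz g, hz h, mul_inv_cancel_right, mul_inv_cancel_right]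
    have : N ≤ E := by
      rw [← hgen, hP]
      exact sup_le (sup_le (Subgroup.zpowers_le.2 hz') (Subgroup.zpowers_le.2 e1))
        (Subgroup.zpowers_le.2 e2)
    exact fun a ha => this ha
  let T1 := {q : G // q ∈ ({p, p * z} : Set G)}
  let T2 := {q : G // q ∈ (N : Set G) \ (P : Set G)}
  have hT1 : Nat.card T1 ≤ 2 := by
    show Nat.card ↥({p, p * z} : Set G) ≤ 2
    rw [Nat.card_coe_set_eq]
    exact (Set.ncard_insert_le _ _).trans (by simp)
  have hT2 : Nat.card T2 = 4 := by
    show Nat.card ↥((N : Set G) \ (P : Set G)) = 4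
    rw [Nat.card_coe_set_eq, Set.ncard_sdiff (by exact hPN) (Set.toFinite _),
      ← Nat.card_coe_set_eq, ← Nat.card_coe_set_eq]
    simp only [SetLike.coe_sort_coe]
    omega
  have hzz : z * z = 1 := hN.sq z hzN
  have himg1 : ∀ g : G, g * p * g⁻¹ ∈ ({p, p * z} : Set G) := by
    intro g
    have h := hpc g
    rw [commutatorElement_def] at h
    obtain ⟨i, hi⟩ := Subgroup.mem_zpowers_iff.1 h
    have hpp : g * p * g⁻¹ = p * (z ^ i)⁻¹ := by
      rw [hi]
      calc g * p * g⁻¹ = (p * g * p⁻¹ * g⁻¹)⁻¹ * p := by group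
        _ = p * (p * g * p⁻¹ * g⁻¹)⁻¹ := by
          have hc : p * g * p⁻¹ * g⁻¹ ∈ Subgroup.center G := by
            rw [← hi]; exact Subgroup.zpow_mem _ hzc i
          exact (Subgroup.mem_center_iff.1 (inv_mem hc) p).symm
    rcases Int.even_or_odd' i with ⟨k, rfl | rfl⟩
    · left; rw [hpp, zpow_mul, zpow_two, hzz, one_zpow, inv_one, mul_one]
    · right
      rw [Set.mem_singleton_iff, hpp, zpow_add, zpow_mul, zpow_two, hzz, one_zpow, one_mul,
        zpow_one, inv_eq_of_mul_eq_one_right hzz]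
  have himg2 : ∀ g : G, g * n * g⁻¹ ∈ (N : Set G) \ (P : Set G) := fun g =>
    ⟨hN.conj_mem g hnN, fun h => hnP (by
      have := (inferInstance : P.Normal).conj_mem _ h g⁻¹
      simpa [mul_assoc] using this)⟩
  let F : G ⧸ C → T1 × T2 := fun q =>
    (⟨q.out * p * q.out⁻¹, himg1 _⟩, ⟨q.out * n * q.out⁻¹, himg2 _⟩)
  have hinj : Function.Injective F := by
    intro q r h
    rw [← q.out_eq, ← r.out_eq]
    refine QuotientGroup.eq.2 (Subgroup.mem_centralizer_iff.2 fun a ha => ?_)
    have := hagree q.out r.out (congrArg Subtype.val (congrArg Prod.fst h))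
      (congrArg Subtype.val (congrArg Prod.snd h)) a ha
    calc a * (q.out⁻¹ * r.out) = q.out⁻¹ * (q.out * a * q.out⁻¹) * r.out := by group
      _ = q.out⁻¹ * (r.out * a * r.out⁻¹) * r.out := by rw [this]
      _ = _ := by group
  have hT : Nat.card (T1 × T2) ≤ 8 := by
    rw [Nat.card_prod, hT2]; omega
  refine ⟨(Nat.card_le_card_of_injective F hinj).trans hT, fun h => ?_⟩
  have hbij := (Nat.bijective_iff_injective_and_card F).2
    ⟨hinj, le_antisymm (Nat.card_le_card_of_injective F hinj) (h ▸ hT)⟩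
  have hpz : p * z ∈ ({p, p * z} : Set G) := Or.inr rfl
  obtain ⟨q, hq⟩ := hbij.2 (⟨p * z, hpz⟩, ⟨n, hnN, hnP⟩)
  have hnp : n * p ∈ (N : Set G) \ (P : Set G) :=
    ⟨mul_mem hnN hpN, fun h' => hnP (by
      have := mul_mem h' (inv_mem (Subgroup.mem_sup_right (Subgroup.mem_zpowers p) : p ∈ P))
      simpa using this)⟩
  obtain ⟨r, hr⟩ := hbij.2 (⟨p, Or.inl rfl⟩, ⟨n * p, hnp⟩)
  have q1 : q.out * p * q.out⁻¹ = p * z := congrArg Subtype.val (congrArg Prod.fst hq)
  have q2 : q.out * n * q.out⁻¹ = n := congrArg Subtype.val (congrArg Prod.snd hq)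
  have r2 : r.out * n * r.out⁻¹ = n * p := congrArg Subtype.val (congrArg Prod.snd hr)
  refine ⟨q, r, fun e => ?_⟩
  rw [← q.out_eq, ← r.out_eq] at e
  have hmem := Subgroup.mem_centralizer_iff.1 (QuotientGroup.eq.1 e) n hnN
  have e1 : q.out * r.out * n * (q.out * r.out)⁻¹ = r.out * q.out * n * (r.out * q.out)⁻¹ := by
    calc q.out * r.out * n * (q.out * r.out)⁻¹
        = q.out * r.out * (n * ((q.out * r.out)⁻¹ * (r.out * q.out))) * (r.out * q.out)⁻¹ := by
          group
      _ = q.out * r.out * ((q.out * r.out)⁻¹ * (r.out * q.out) * n) * (r.out * q.out)⁻¹ := by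
          rw [hmem]
      _ = _ := by group
  have e2 : q.out * (r.out * n * r.out⁻¹) * q.out⁻¹ = r.out * (q.out * n * q.out⁻¹) * r.out⁻¹ := by
    simpa only [mul_inv_rev, mul_assoc] using e1
  rw [r2, q2, r2, show q.out * (n * p) * q.out⁻¹ = (q.out * n * q.out⁻¹) * (q.out * p * q.out⁻¹) by
    group, q2, q1] at e2
  have : z = 1 := by
    have h3 : n * p * z = n * p * 1 := by rw [mul_one, mul_assoc]; exact e2
    exact mul_left_cancel h3
  rw [this, orderOf_one] at hzo
  omega

/-- Subgroups of the action on a normal elementary abelian group of order eight. -/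
theorem quotient_bound (hG : IsPGroup 2 G) (hN : Elem N) (h8 : Nat.card N = 8)
    [(Subgroup.centralizer (N : Set G)).Normal] (B : Subgroup (G ⧸ Subgroup.centralizer (N : Set G))) :
    Nat.card B ≤ 4 * Nat.card (sqSub B) := by
  obtain ⟨hle, hnc⟩ := quotient_small hG hN h8
  have hB := B.card_le_card_group
  by_cases h : sqSub B = ⊥
  · rw [h, Subgroup.card_bot, mul_one]
    by_contra hlt
    have hcB := card_cases (hG.to_quotient _) B
    have hB8 : Nat.card B = 8 := by omega
    have htop : B = ⊤ := Subgroup.eq_top_of_card_eq _ (by omega)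
    obtain ⟨a, b, hab⟩ := hnc (by omega)
    have := comm_mem_sqSub (show a ∈ B from htop ▸ Subgroup.mem_top a)
      (show b ∈ B from htop ▸ Subgroup.mem_top b)
    rw [h, Subgroup.mem_bot, mul_inv_eq_one, mul_inv_eq_iff_eq_mul] at this
    exact hab this
  · obtain ⟨⟨a, ha⟩, ha1⟩ := Subgroup.ne_bot_iff_exists_ne_one.1 h
    have := two_le_card ha (fun e => ha1 (Subtype.ext e))
    omega

end Eight

end CfsgLib.SelfCentEight
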