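import Mathlib
import Cfsg.Prelude.Def_CaseTheorems
import Cfsg.Agent.Lib.MacWilliams.Main
import Cfsg.Agent.Lib.PGroup.Basic

/-!
Counting tools for bounding the sectional rank of a 2-group through squares.
-/

set_option autoImplicit false

namespace CfsgLib.SelfCentEight

open CfsgLib.MacWilliams (sqSub mul_self_mem_sqSub sqSub_le sqSub_mono sqSub_le_iff)

variable {G : Type*} [Group G]

/-- Membership in the centraliser of one element. -/
theorem mem_cent {s x : G} : x ∈ Subgroup.centralizer ({s} : Set G) ↔ x * s = s * x := by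
  rw [Subgroup.mem_centralizer_iff]
  simp only [Set.mem_singleton_iff, forall_eq]
  exact eq_comm

theorem comm_mem_sqSub {B : Subgroup G} {a b : G} (ha : a ∈ B) (hb : b ∈ B) :
    a * b * a⁻¹ * b⁻¹ ∈ sqSub B :=
  CfsgLib.MacWilliams.commutator_mem_of_sq_mem (fun _ h => mul_self_mem_sqSub h) ha hb

variable [Finite G]

/-- A subgroup is the product of its image and its part in the kernel. -/
theorem card_eq_map_mul_inf {G' : Type*} [Group G'] (f : G →* G') (B : Subgroup G) :
    Nat.card B = Nat.card (B.map f) * Nat.card ↥(B ⊓ f.ker) := by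
  let g := f.comp B.subtype
  have h := Subgroup.card_eq_card_quotient_mul_card_subgroup g.ker
  have hr : g.range = B.map f := by
    rw [MonoidHom.range_comp, Subgroup.range_subtype]
  have hk : g.ker = (B ⊓ f.ker).subgroupOf B := by
    ext x; simp [g, Subgroup.mem_subgroupOf]
  rw [Nat.card_congr (QuotientGroup.quotientKerEquivRange g).toEquiv, hr, hk,
    Nat.card_congr (Subgroup.subgroupOfEquivOfLe inf_le_left).toEquiv] at h
  exact h

/-- Splitting the square bound along a homomorphism. -/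
theorem le_of_map {G' : Type*} [Group G'] (f : G →* G') (B : Subgroup G) (i j : ℕ)
    (h1 : Nat.card (B.map f) ≤ i * Nat.card (sqSub (B.map f)))
    (h2 : Nat.card ↥(B ⊓ f.ker) ≤ j * Nat.card ↥(sqSub B ⊓ f.ker)) :
    Nat.card B ≤ i * j * Nat.card (sqSub B) := by
  rw [card_eq_map_mul_inf f B, card_eq_map_mul_inf f (sqSub B), CfsgLib.MacWilliams.map_sqSub]
  calc _ ≤ (i * Nat.card (sqSub (B.map f))) * (j * Nat.card ↥(sqSub B ⊓ f.ker)) :=
        Nat.mul_le_mul h1 h2
    _ = _ := by ring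

theorem two_le_card {K : Subgroup G} {a : G} (ha : a ∈ K) (h : a ≠ 1) : 2 ≤ Nat.card K := by
  haveI : Nontrivial K := ⟨⟨⟨a, ha⟩, 1, fun e => h (congrArg Subtype.val e)⟩⟩
  exact Finite.one_lt_card

theorem four_le_card (hG : IsPGroup 2 G) {K : Subgroup G} {a b : G} (ha : a ∈ K) (hb : b ∈ K)
    (h1 : a ≠ 1) (h2 : b ≠ 1) (h3 : a ≠ b) : 4 ≤ Nat.card K := by
  haveI : Fact (Nat.Prime 2) := ⟨Nat.prime_two⟩
  classical
  haveI := Fintype.ofFinite K
  obtain ⟨n, hn⟩ := (hG.to_subgroup K).exists_card_eq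
  have h : 2 < Fintype.card K :=
    Fintype.two_lt_card_iff.2 ⟨1, ⟨a, ha⟩, ⟨b, hb⟩, fun e => h1 (congrArg Subtype.val e).symm,
      fun e => h2 (congrArg Subtype.val e).symm, fun e => h3 (congrArg Subtype.val e)⟩
  rw [Fintype.card_eq_nat_card, hn] at h
  rw [hn]
  match n, h with
  | 0, h => simp at h
  | 1, h => simp at h
  | n + 2, _ => rw [pow_add]; exact le_mul_of_one_le_left (by norm_num) Nat.one_le_two_pow

/-- A card of a subgroup of a 2-group is a power of two: small values. -/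
theorem card_cases (hG : IsPGroup 2 G) (K : Subgroup G) :
    Nat.card K = 1 ∨ Nat.card K = 2 ∨ Nat.card K = 4 ∨ Nat.card K = 8 ∨ 16 ≤ Nat.card K := by
  haveI : Fact (Nat.Prime 2) := ⟨Nat.prime_two⟩
  obtain ⟨n, hn⟩ := (hG.to_subgroup K).exists_card_eq
  match n, hn with
  | 0, hn => left; simpa using hn
  | 1, hn => right; left; simpa using hn
  | 2, hn => right; right; left; simpa using hn
  | 3, hn => right; right; right; left; simpa using hn
  | n + 4, hn =>
    right; right; right; right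
    rw [hn, pow_add]
    exact le_mul_of_one_le_left (by norm_num) Nat.one_le_two_pow

/-- The sectional rank from the bound through squares. -/
theorem sectional_of_bound (h : ∀ K : Subgroup G, Nat.card K ≤ 16 * Nat.card (sqSub K)) :
    Cfsg.SectionalPRankLE 2 4 G := by
  intro H N _ A hc he
  let f := QuotientGroup.mk' N
  have hf : Function.Surjective f := QuotientGroup.mk'_surjective N
  set K := (A.comap f).map H.subtype with hK
  have hKcard : Nat.card K = Nat.card A * Nat.card N := by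
    rw [hK, Subgroup.card_map_of_injective H.subtype_injective]
    have h1 := (A.comap f).card_mul_index
    rw [Subgroup.index_comap_of_surjective _ hf,
      Subgroup.card_eq_card_quotient_mul_card_subgroup N, ← A.card_mul_index] at h1
    refine Nat.eq_of_mul_eq_mul_right (m := A.index)
      (Nat.pos_of_ne_zero Subgroup.index_ne_zero_of_finite) ?_
    rw [h1]
    ring
  have hsq : Nat.card (sqSub K) ≤ Nat.card N := by
    rw [Nat.card_congr (N.equivMapOfInjective H.subtype H.subtype_injective).toEquiv]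
    refine Subgroup.card_le_of_le (sqSub_le_iff.mpr ?_)
    rintro _ ⟨x, hx, rfl⟩
    refine ⟨x * x, ?_, rfl⟩
    show x * x ∈ N
    rw [← QuotientGroup.eq_one_iff, QuotientGroup.mk_mul, ← pow_two]
    exact he _ hx
  have hle := h K
  rw [hKcard] at hle
  exact Nat.le_of_mul_le_mul_right (hle.trans (Nat.mul_le_mul_left 16 hsq)) Nat.card_pos

/-- A normal elementary abelian 2-subgroup. -/
structure Elem (N : Subgroup G) : Prop where
  normal : N.Normal
  comm : ∀ a ∈ N, ∀ b ∈ N, a * b = b * a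
  sq : ∀ a ∈ N, a * a = 1

variable {N : Subgroup G}

namespace Elem

variable (hN : Elem N)
include hN

theorem conj_mem (s : G) {n : G} (hn : n ∈ N) : s * n * s⁻¹ ∈ N := hN.normal.conj_mem n hn s

theorem comm_mem (s : G) {n : G} (hn : n ∈ N) : s * n * s⁻¹ * n⁻¹ ∈ N :=
  mul_mem (hN.conj_mem s hn) (inv_mem hn)

theorem inv_eq {n : G} (hn : n ∈ N) : n⁻¹ = n := inv_eq_of_mul_eq_one_right (hN.sq n hn)

/-- `n ↦ [s, n]` on a subgroup of `N`. -/
def delta (s : G) (K : Subgroup G) (hK : K ≤ N) : K →* G where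
  toFun n := s * n * s⁻¹ * (n : G)⁻¹
  map_one' := by simp
  map_mul' a b := by
    have h1 : (a : G)⁻¹ * (s * b * s⁻¹ * (b : G)⁻¹) = (s * b * s⁻¹ * (b : G)⁻¹) * (a : G)⁻¹ :=
      hN.comm _ (inv_mem (hK a.2)) _ (hN.comm_mem s (hK b.2))
    calc s * ((a * b : K) : G) * s⁻¹ * ((a * b : K) : G)⁻¹
        = (s * a * s⁻¹) * ((s * b * s⁻¹ * (b : G)⁻¹) * (a : G)⁻¹) := by
          rw [Subgroup.coe_mul]; group
      _ = (s * a * s⁻¹) * ((a : G)⁻¹ * (s * b * s⁻¹ * (b : G)⁻¹)) := by rw [h1]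
      _ = _ := by group

theorem delta_apply (s : G) (K : Subgroup G) (hK : K ≤ N) (n : K) :
    hN.delta s K hK n = s * n * s⁻¹ * (n : G)⁻¹ := rfl

/-- The kernel of `delta` is the centraliser. -/
theorem card_ker (s : G) (K : Subgroup G) (hK : K ≤ N) :
    Nat.card (hN.delta s K hK).ker = Nat.card ↥(K ⊓ Subgroup.centralizer ({s} : Set G)) := by
  have hk : (hN.delta s K hK).ker = (K ⊓ Subgroup.centralizer ({s} : Set G)).subgroupOf K := by
    ext x
    rw [MonoidHom.mem_ker, delta_apply, Subgroup.mem_subgroupOf, Subgroup.mem_inf, mem_cent,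
      mul_inv_eq_one, mul_inv_eq_iff_eq_mul]
    exact ⟨fun h => ⟨x.2, h.symm⟩, fun h => h.2.symm⟩
  rw [hk, Nat.card_congr (Subgroup.subgroupOfEquivOfLe inf_le_left).toEquiv]

theorem card_eq_range_mul (s : G) (K : Subgroup G) (hK : K ≤ N) :
    Nat.card K = Nat.card (hN.delta s K hK).range *
      Nat.card ↥(K ⊓ Subgroup.centralizer ({s} : Set G)) := by
  rw [← hN.card_ker s K hK, ← Nat.card_congr (QuotientGroup.quotientKerEquivRange _).toEquiv]
  exact Subgroup.card_eq_card_quotient_mul_card_subgroup _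

/-- An element with small centraliser in `N` forces many squares. -/
theorem le_of_fixed {B : Subgroup G} {b : G} (hb : b ∈ B)
    (h4 : Nat.card ↥(N ⊓ Subgroup.centralizer ({b} : Set G)) ≤ 4) :
    Nat.card ↥(B ⊓ N) ≤ 4 * Nat.card ↥(sqSub B ⊓ N) := by
  rw [hN.card_eq_range_mul b (B ⊓ N) inf_le_right, mul_comm]
  refine Nat.mul_le_mul ((Subgroup.card_le_of_le (inf_le_inf_right _ inf_le_right)).trans h4)
    (Subgroup.card_le_of_le ?_)
  rintro _ ⟨n, rfl⟩
  exact ⟨comm_mem_sqSub hb n.2.1, hN.comm_mem b n.2.2⟩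

/-- An element whose square centralises `N` fixes at least a square root of `N`. -/
theorem card_le_sq (s : G) (hs : ∀ n ∈ N, s * s * n = n * (s * s)) :
    Nat.card (hN.delta s N le_rfl).range ≤ Nat.card ↥(N ⊓ Subgroup.centralizer ({s} : Set G)) := by
  refine Subgroup.card_le_of_le ?_
  rintro _ ⟨⟨n, hn⟩, rfl⟩
  refine ⟨hN.comm_mem s hn, mem_cent.2 ?_⟩
  show s * n * s⁻¹ * n⁻¹ * s = s * (s * n * s⁻¹ * n⁻¹)
  have h2 : s * s * n * s⁻¹ * s⁻¹ = n := by rw [hs n hn]; group
  have hcm : (s * n * s⁻¹)⁻¹ * n = n * (s * n * s⁻¹)⁻¹ :=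
    hN.comm _ (inv_mem (hN.conj_mem s hn)) _ hn
  have e : s * (s * n * s⁻¹ * n⁻¹) * s⁻¹ = s * n * s⁻¹ * n⁻¹ := by
    calc s * (s * n * s⁻¹ * n⁻¹) * s⁻¹
        = (s * s * n * s⁻¹ * s⁻¹) * (s * n * s⁻¹)⁻¹ := by group
      _ = n * (s * n * s⁻¹)⁻¹ := by rw [h2]
      _ = (s * n * s⁻¹)⁻¹ * n := hcm.symm
      _ = (s * n * s⁻¹) * n⁻¹ := by rw [hN.inv_eq (hN.conj_mem s hn), hN.inv_eq hn]
  exact (mul_inv_eq_iff_eq_mul.1 e).symm

theorem card_le_mul_self (s : G) (hs : ∀ n ∈ N, s * s * n = n * (s * s)) :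
    Nat.card N ≤ Nat.card ↥(N ⊓ Subgroup.centralizer ({s} : Set G)) *
      Nat.card ↥(N ⊓ Subgroup.centralizer ({s} : Set G)) := by
  rw [hN.card_eq_range_mul s N le_rfl]
  exact Nat.mul_le_mul_right _ (hN.card_le_sq s hs)

end Elem

end CfsgLib.SelfCentEight
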