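import Cfsg.Agent.Lib.SelfCentEight.Setup

/-!
A 2-group with a self-centralising elementary abelian subgroup of order eight has sectional rank at
most four.
-/

set_option autoImplicit false
set_option linter.unusedSectionVars false

namespace CfsgLib.SelfCentEight

open CfsgLib.MacWilliams (sqSub mul_self_mem_sqSub sqSub_le sqSub_mono sqSub_le_iff)

universe u

variable {G : Type u} [Group G] [Finite G]

/-- Centralisers in `N` of elements congruent modulo `N`. -/
theorem inf_cent_congr {N : Subgroup G} (hN : Elem N) {b c : G} (h : b * c⁻¹ ∈ N) :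
    N ⊓ Subgroup.centralizer ({b} : Set G) = N ⊓ Subgroup.centralizer ({c} : Set G) := by
  haveI := hN.normal
  have key : ∀ b c : G, b * c⁻¹ ∈ N → ∀ n ∈ N, n * c = c * n → n * b = b * n := by
    intro b c hbc n hn hnc
    calc n * b = (n * (b * c⁻¹)) * c := by group
      _ = ((b * c⁻¹) * n) * c := by rw [hN.comm n hn _ hbc]
      _ = (b * c⁻¹) * (n * c) := by group
      _ = b * n := by rw [hnc]; group
  have h' : c * b⁻¹ ∈ N := by simpa using inv_mem h
  ext n
  simp only [Subgroup.mem_inf, mem_cent]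
  exact ⟨fun hn => ⟨hn.1, key c b h' n hn.1 hn.2⟩, fun hn => ⟨hn.1, key b c h n hn.1 hn.2⟩⟩

/-- An element outside the self-centralising `N` moves it. -/
theorem exists_moved {N : Subgroup G} (hN : Elem N) {b : G}
    (hb : b ∉ Subgroup.centralizer (N : Set G)) : ∃ n ∈ N, b * n * b⁻¹ * n⁻¹ ≠ 1 := by
  by_contra h
  push Not at h
  refine hb (Subgroup.mem_centralizer_iff.2 fun n hn => ?_)
  have := h n hn
  rw [mul_inv_eq_one, mul_inv_eq_iff_eq_mul] at this
  exact this.symm

namespace Data

variable {A N : Subgroup G} (hD : Data A N)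
include hD

/-- `A` is generated by `t` and its part in `C(N)` when the latter has order four. -/
theorem gen_four {t : G} (htA : t ∈ A) (htC : t ∉ Subgroup.centralizer (N : Set G))
    (h4 : Nat.card ↥(A ⊓ Subgroup.centralizer (N : Set G)) = 4) {a : G} (ha : a ∈ A) :
    a ∈ A ⊓ Subgroup.centralizer (N : Set G) ∨ t * a ∈ A ⊓ Subgroup.centralizer (N : Set G) := by
  set F := A ⊓ Subgroup.centralizer (N : Set G)
  have hidx : (F.subgroupOf A).index = 2 := by
    have h1 := (F.subgroupOf A).card_mul_index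
    rw [Nat.card_congr (Subgroup.subgroupOfEquivOfLe inf_le_left).toEquiv, h4, hD.a8] at h1
    omega
  by_cases haF : a ∈ F
  · exact Or.inl haF
  · refine Or.inr ?_
    exact (Subgroup.mul_mem_iff_of_index_two hidx (a := (⟨t, htA⟩ : A)) (b := ⟨a, ha⟩)).2
      ⟨fun h => absurd h (fun h' => htC h'.2), fun h => absurd h haF⟩

theorem mem_of_four {t : G} (htA : t ∈ A) (htC : t ∉ Subgroup.centralizer (N : Set G))
    (h4 : Nat.card ↥(A ⊓ Subgroup.centralizer (N : Set G)) = 4) {s : G} (hst : s * t = t * s)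
    (hs : ∀ e ∈ A ⊓ Subgroup.centralizer (N : Set G), s * e = e * s) : s ∈ A := by
  refine hD.mem_A fun a ha => ?_
  rcases hD.gen_four htA htC h4 ha with h | h
  · exact hs a h
  · have h1 := hs _ h
    have h2 : a = t * (t * a) := by rw [← mul_assoc, hD.aelem t htA, one_mul]
    rw [h2, ← mul_assoc, hst, mul_assoc, h1, ← mul_assoc]

/-- The image of an element commuting with `t` modulo `N`. -/
theorem comm_mem_of_quot [N.Normal] {t s : G}
    (h : (s : G ⧸ N) * (t : G ⧸ N) = (t : G ⧸ N) * (s : G ⧸ N)) :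
    t * s * t⁻¹ * s⁻¹ ∈ N := by
  rw [← QuotientGroup.eq_one_iff, QuotientGroup.mk_mul, QuotientGroup.mk_mul,
    QuotientGroup.mk_mul, QuotientGroup.mk_inv, QuotientGroup.mk_inv, ← h]
  group

/-- Adjustable commutators when `N` has order sixteen. -/
theorem exists_adjust_sixteen (h16 : Nat.card N = 16) {t : G} (htA : t ∈ A)
    (htC : t ∉ Subgroup.centralizer (N : Set G)) {n : G}
    (hn : n ∈ N ⊓ Subgroup.centralizer ({t} : Set G)) :
    ∃ n₀ ∈ N, t * n₀ * t⁻¹ * n₀⁻¹ = n := by
  have hE := (hD.basic htA htC).1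
  have hcard := hD.elem.card_eq_range_mul t N le_rfl
  rw [hE, h16] at hcard
  have hle : (hD.elem.delta t N le_rfl).range ≤ N ⊓ Subgroup.centralizer ({t} : Set G) := by
    rintro _ ⟨m, rfl⟩
    exact hD.comm_fixed htA (hD.elem.comm_mem t m.2)
  have heq := Subgroup.eq_of_le_of_card_ge hle (by rw [hE]; omega)
  rw [← heq] at hn
  obtain ⟨⟨m, hm⟩, he⟩ := hn
  exact ⟨m, hm, he⟩

/-- A normal elementary abelian group of order sixteen is self-centralising. -/
theorem cent_eq_of_sixteen (h16 : Nat.card N = 16) {t : G} (htA : t ∈ A)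
    (htC : t ∉ Subgroup.centralizer (N : Set G)) : Subgroup.centralizer (N : Set G) = N := by
  haveI := Fact.mk Nat.prime_two
  haveI := hD.elem.normal
  haveI := hD.normal_cent
  refine le_antisymm ?_ hD.le_cent
  by_contra hle
  have hlt : N < Subgroup.centralizer (N : Set G) :=
    lt_of_le_not_ge hD.le_cent hle
  obtain ⟨y, hyC, hyN, -, hyc⟩ := CfsgLib.PGroup.exists_step hD.pgroup _ _ hlt
  have h1 : t * y * t⁻¹ * y⁻¹ ∈ N := by
    have := inv_mem (hyc t)
    simpa [commutatorElement_def, mul_inv_rev, mul_assoc] using this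
  obtain ⟨n₀, hn₀, he⟩ := hD.exists_adjust_sixteen h16 htA htC (hD.comm_fixed htA h1)
  have h2 := hD.adjust htA hn₀ he.symm
  have h3 := (hD.basic htA htC).2.1 ⟨mul_mem (hD.le_cent hn₀) hyC, h2⟩
  exact hyN (by simpa using mul_mem (inv_mem hn₀) h3)

/-- An element commuting modulo `N` with two independent members of `A` lies in `A N`. -/
theorem exists_in_AN (h16 : Nat.card N = 16) {t u : G} (htA : t ∈ A)
    (htC : t ∉ Subgroup.centralizer (N : Set G)) (huA : u ∈ A)
    (huC : u ∉ Subgroup.centralizer (N : Set G))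
    (hutC : t * u ∉ Subgroup.centralizer (N : Set G)) {s : G}
    (hst : t * s * t⁻¹ * s⁻¹ ∈ N) (hsu : u * s * u⁻¹ * s⁻¹ ∈ N) : ∃ a ∈ A, a * s⁻¹ ∈ N := by
  obtain ⟨z, hzA, hzN, hzc, hz1, hz2⟩ := hD.exists_z
  have hzm := Subgroup.mem_center_iff.1 hzc
  haveI := hD.elem.normal
  obtain ⟨n₀, hn₀, he⟩ := hD.exists_adjust_sixteen h16 htA htC (hD.comm_fixed htA hst)
  have hs' := hD.adjust htA hn₀ he.symm
  set s' := n₀ * s with hs'def
  have hut : u * t = t * u := hD.acomm u huA t htA
  have hn : u * s' * u⁻¹ * s'⁻¹ ∈ N := by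
    have h1 := hD.elem.comm_mem u hn₀
    have e : u * s' * u⁻¹ * s'⁻¹ =
        (u * n₀ * u⁻¹ * n₀⁻¹) * (n₀ * (u * s * u⁻¹ * s⁻¹) * n₀⁻¹) := by rw [hs'def]; group
    rw [e]
    exact mul_mem h1 (hD.elem.conj_mem n₀ hsu)
  set E := N ⊓ Subgroup.centralizer ({t} : Set G) with hE
  have hnE : u * s' * u⁻¹ * s'⁻¹ ∈ E := by
    refine ⟨hn, ?_⟩
    have h1 : u ∈ Subgroup.centralizer ({t} : Set G) := mem_cent.2 hut
    exact (Subgroup.centralizer ({t} : Set G)).mul_mem ((Subgroup.centralizer ({t} : Set G)).mul_mem ((Subgroup.centralizer ({t} : Set G)).mul_mem h1 hs')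
      ((Subgroup.centralizer ({t} : Set G)).inv_mem h1)) ((Subgroup.centralizer ({t} : Set G)).inv_mem hs')
  -- `F` is the pair `1, z`
  rcases (hD.basic htA htC).2.2 with ⟨hc, -⟩ | hc
  · exfalso
    rcases hD.gen_four htA htC hc huA with h | h
    · exact huC h.2
    · exact hutC h.2
  have hAgen : ∀ x : G, x * t = t * x → x * u = u * x → ∀ a ∈ A, x * a = a * x := by
    intro x hxt hxu
    have hle : A ≤ Subgroup.centralizer ({x} : Set G) := by
      have h4 : 4 ≤ Nat.card ↥(A ⊓ Subgroup.centralizer ({x} : Set G)) :=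
        four_le_card hD.pgroup ⟨hzA, mem_cent.2 (hzm x).symm⟩
          ⟨htA, mem_cent.2 hxt.symm⟩ hz1 (fun e => htC (e ▸ one_mem _))
          (fun e => htC (e ▸ hD.le_cent hzN))
      have hle8 := Subgroup.card_le_of_le (inf_le_left :
        A ⊓ Subgroup.centralizer ({x} : Set G) ≤ A)
      rw [hD.a8] at hle8
      rcases card_cases hD.pgroup (A ⊓ Subgroup.centralizer ({x} : Set G)) with h | h | h | h | h
      · omega
      · omega
      · exfalso
        rcases four_elems h ⟨hzA, mem_cent.2 (hzm x).symm⟩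
          ⟨htA, mem_cent.2 hxt.symm⟩ hz2 hz1 (fun e => htC (e ▸ one_mem _))
          (fun e => htC (e ▸ hD.le_cent hzN)) (k := u) ⟨huA, mem_cent.2 hxu.symm⟩ with
          rfl | rfl | rfl | rfl
        · exact huC (one_mem _)
        · exact huC (hD.le_cent hzN)
        · exact hutC (by rw [hD.aelem u huA]; exact one_mem _)
        · refine hutC ?_
          rw [← hzm t, ← mul_assoc, hD.aelem t htA, one_mul]
          exact hD.le_cent hzN
      · exact (Subgroup.eq_of_le_of_card_ge inf_le_left (by rw [h, hD.a8])).ge.trans inf_le_right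
      · omega
    exact fun a ha => (mem_cent.1 (hle ha)).symm
  have hfix : ∀ e ∈ E, e * u = u * e → e = 1 ∨ e = z := by
    intro e he heu
    have heA : e ∈ A ⊓ Subgroup.centralizer (N : Set G) :=
      ⟨hD.mem_A (hAgen e (mem_cent.1 he.2) heu), hD.le_cent he.1⟩
    by_contra h
    push Not at h
    have := four_le_card hD.pgroup heA ⟨hzA, hD.le_cent hzN⟩ h.1 hz1 h.2
    omega
  -- some element of `E` with `[u, e] = z`
  obtain ⟨e₀, he₀, he₀z⟩ : ∃ e ∈ E, u * e * u⁻¹ * e⁻¹ = z := by
    by_contra h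
    push Not at h
    have hall : ∀ e ∈ E, e * u = u * e := by
      intro e he
      have h1 : u * e * u⁻¹ * e⁻¹ ∈ E := by
        refine ⟨hD.elem.comm_mem u he.1, ?_⟩
        have hu' : u ∈ Subgroup.centralizer ({t} : Set G) := mem_cent.2 hut
        exact (Subgroup.centralizer ({t} : Set G)).mul_mem ((Subgroup.centralizer ({t} : Set G)).mul_mem ((Subgroup.centralizer ({t} : Set G)).mul_mem hu' he.2)
          ((Subgroup.centralizer ({t} : Set G)).inv_mem hu')) ((Subgroup.centralizer ({t} : Set G)).inv_mem he.2)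
      rcases hfix _ h1 (mem_cent.1 (hD.comm_fixed huA h1.1).2) with h2 | h2
      · rw [mul_inv_eq_one, mul_inv_eq_iff_eq_mul] at h2; exact h2.symm
      · exact absurd h2 (h e he)
    have : E ≤ A ⊓ Subgroup.centralizer (N : Set G) := fun e he =>
      ⟨hD.mem_A (hAgen e (mem_cent.1 he.2) (hall e he)), hD.le_cent he.1⟩
    have := Subgroup.card_le_of_le this
    have h4 : Nat.card E = 4 := (hD.basic htA htC).1
    omega
  rcases hfix _ hnE (mem_cent.1 (hD.comm_fixed huA hn).2) with h | h
  · refine ⟨s', hD.mem_A (hAgen s' (mem_cent.1 hs') ?_), ?_⟩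
    · rw [mul_inv_eq_one, mul_inv_eq_iff_eq_mul] at h; exact h.symm
    · rw [hs'def, mul_inv_cancel_right]; exact hn₀
  · refine ⟨e₀ * s', hD.mem_A (hAgen _ ?_ ?_), ?_⟩
    · exact mem_cent.1 (mul_mem he₀.2 hs')
    · symm
      rw [← mul_inv_eq_iff_eq_mul]
      calc u * (e₀ * s') * u⁻¹ = (u * e₀ * u⁻¹ * e₀⁻¹) * e₀ * ((u * s' * u⁻¹ * s'⁻¹) * s') := by
            group
        _ = z * e₀ * (z * s') := by rw [he₀z, h]
        _ = z * (e₀ * z) * s' := by group
        _ = z * (z * e₀) * s' := by rw [hzm e₀]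
        _ = (z * z) * (e₀ * s') := by group
        _ = _ := by rw [hz2, one_mul]
    · rw [hs'def, show e₀ * (n₀ * s) * s⁻¹ = e₀ * n₀ by group]
      exact mul_mem he₀.1 hn₀

/-- Order sixteen. -/
theorem bound_sixteen (h16 : Nat.card N = 16) (B : Subgroup G) :
    Nat.card B ≤ 16 * Nat.card (sqSub B) := by
  haveI := Fact.mk Nat.prime_two
  haveI := hD.elem.normal
  obtain ⟨t, htA, htC⟩ : ∃ t ∈ A, t ∉ Subgroup.centralizer (N : Set G) := by
    by_contra h
    push Not at h
    have := (hD.eq_of_le h).2.1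
    omega
  have hC := hD.cent_eq_of_sixteen h16 htA htC
  have hlt : N < ⊤ := lt_top_iff_ne_top.2 fun h => htC (hD.le_cent (h ▸ Subgroup.mem_top t))
  obtain ⟨c, -, hcN, hc2, hcomm⟩ := CfsgLib.PGroup.exists_step hD.pgroup N ⊤ hlt
  rw [pow_two] at hc2
  have hcc : (c : G ⧸ N) ∈ Subgroup.center (G ⧸ N) := by
    rw [Subgroup.mem_center_iff]
    intro q
    obtain ⟨g, rfl⟩ := QuotientGroup.mk'_surjective N q
    simp only [QuotientGroup.mk'_apply]
    rw [← QuotientGroup.mk_mul, ← QuotientGroup.mk_mul, QuotientGroup.eq]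
    have h1 := hD.elem.normal.conj_mem _ (inv_mem (hcomm g)) (c * g)⁻¹
    rw [commutatorElement_def] at h1
    have h2 := inv_mem h1
    simpa [mul_inv_rev, mul_assoc] using h2
  have hcq : ∀ a : G, a * c * a⁻¹ * c⁻¹ ∈ N := fun a =>
    hD.comm_mem_of_quot (Subgroup.mem_center_iff.1 hcc (a : G ⧸ N)).symm
  -- the two facts needed
  suffices key : Nat.card ↥(N ⊓ Subgroup.centralizer ({c} : Set G)) ≤ 4 ∧
      ∃ x : G ⧸ N, Nat.card (Subgroup.centralizer ({x} : Set (G ⧸ N))) ≤ 4 by
    obtain ⟨hc4, x, hx⟩ := key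
    refine bound_central hD.elem (by omega) (small_bound (hD.pgroup.to_quotient N) x hx) c hcN hc2
      hcc (fun B b hb hbc => hD.elem.le_of_fixed hb ((inf_cent_congr hD.elem hbc).symm ▸ hc4))
      (fun B b hb hbN => ?_) B
    obtain ⟨n, hn, hne⟩ := exists_moved hD.elem (hC.symm ▸ hbN : b ∉ _)
    have hle := Subgroup.card_le_of_le (inf_le_right : B ⊓ N ≤ N)
    rw [h16] at hle
    rcases card_cases hD.pgroup (B ⊓ N) with h | h | h | h | h
    any_goals
      have hpos : 0 < Nat.card ↥(sqSub B ⊓ N) := Nat.card_pos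
      omega
    have heq : B ⊓ N = N := Subgroup.eq_of_le_of_card_ge inf_le_right (by omega)
    have hnB : n ∈ B := (heq.symm ▸ hn : n ∈ B ⊓ N).1
    have := two_le_card (K := sqSub B ⊓ N)
      ⟨comm_mem_sqSub hb hnB, hD.elem.comm_mem b hn⟩ hne
    omega
  rcases (hD.basic htA htC).2.2 with ⟨hF, hEF⟩ | hF
  · -- `|A ∩ C| = 4`
    set E := N ⊓ Subgroup.centralizer ({t} : Set G) with hE
    set K := Subgroup.centralizer ({t} : Set G) with hK
    obtain ⟨z, hzA, hzN, hzc, hz1, hz2⟩ := hD.exists_z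
    have hzm := Subgroup.mem_center_iff.1 hzc
    have hzE : z ∈ E := ⟨hzN, mem_cent.2 (hzm t).symm⟩
    have hE4 : Nat.card E = 4 := (hD.basic htA htC).1
    obtain ⟨e, heE, he1, hez⟩ : ∃ e ∈ E, e ≠ 1 ∧ e ≠ z := by
      by_contra h
      push Not at h
      have hle : E ≤ Subgroup.zpowers z := fun a ha => by
        by_cases ha1 : a = 1
        · rw [ha1]; exact one_mem _
        · rw [h a ha ha1]; exact Subgroup.mem_zpowers z
      have := Subgroup.card_le_of_le hle
      rw [Nat.card_zpowers, orderOf_eq_prime (p := 2) (by rw [pow_two, hz2]) hz1] at this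
      omega
    have hcenE : ∀ s : G, s * t = t * s → s * e = e * s → s ∈ A := by
      intro s hst hse
      refine hD.mem_of_four htA htC hF hst fun a ha => ?_
      rw [← hEF] at ha
      rcases four_elems hE4 hzE heE hz2 hz1 he1 (Ne.symm hez) ha with rfl | rfl | rfl | rfl
      · simp
      · exact hzm s
      · exact hse
      · rw [← mul_assoc, hzm s, mul_assoc, hse, ← mul_assoc]
    have hconjE : ∀ s ∈ K, s * e * s⁻¹ * e⁻¹ ∈ Subgroup.zpowers z := by
      intro s hs
      have hm : s * e * s⁻¹ ∈ E := ⟨hD.elem.conj_mem s heE.1,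
        K.mul_mem (K.mul_mem hs heE.2) (K.inv_mem hs)⟩
      rcases four_elems hE4 hzE heE hz2 hz1 he1 (Ne.symm hez) hm with h | h | h | h
      · exact absurd (conj_eq_one_iff.1 h) he1
      · exfalso
        refine hez ?_
        have : e = s⁻¹ * z * s := by rw [← h]; group
        rw [this, hzm, inv_mul_cancel_right]
      · rw [h, mul_inv_cancel]; exact one_mem _
      · rw [h, mul_inv_cancel_right]; exact Subgroup.mem_zpowers z
    -- the centraliser of `t` has order at most sixteen
    have hK16 : Nat.card K ≤ 16 := by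
      let f : K →* Subgroup.zpowers z :=
        { toFun := fun s => ⟨(s : G) * e * (s : G)⁻¹ * e⁻¹, hconjE s s.2⟩
          map_one' := Subtype.ext (by simp)
          map_mul' := fun a b => Subtype.ext (by
            show ((a * b : K) : G) * e * ((a * b : K) : G)⁻¹ * e⁻¹ =
              (a : G) * e * (a : G)⁻¹ * e⁻¹ * ((b : G) * e * (b : G)⁻¹ * e⁻¹)
            have hc := Subgroup.mem_center_iff.1 (Subgroup.zpowers_le.2 hzc (hconjE b b.2))
            calc ((a * b : K) : G) * e * ((a * b : K) : G)⁻¹ * e⁻¹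
                = (a : G) * ((b : G) * e * (b : G)⁻¹ * e⁻¹) * (e * (a : G)⁻¹ * e⁻¹) := by
                  rw [Subgroup.coe_mul]; group
              _ = ((b : G) * e * (b : G)⁻¹ * e⁻¹) * ((a : G) * e * (a : G)⁻¹ * e⁻¹) := by
                  rw [hc (a : G)]; group
              _ = _ := (hc _).symm) }
      have h1 := Subgroup.card_eq_card_quotient_mul_card_subgroup f.ker
      rw [Nat.card_congr (QuotientGroup.quotientKerEquivRange f).toEquiv] at h1
      have h2 : Nat.card f.ker ≤ 8 := by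
        rw [← hD.a8]
        refine Nat.card_le_card_of_injective (fun s => (⟨((s : K) : G), hcenE _
          (mem_cent.1 (s : K).2) ?_⟩ : A)) fun a b hab =>
            Subtype.ext (Subtype.ext (congrArg Subtype.val hab :))
        have := congrArg Subtype.val s.2
        rw [← mul_inv_eq_iff_eq_mul]
        exact mul_inv_eq_one.1 this
      have h3 := f.range.card_le_card_group
      rw [Nat.card_zpowers, orderOf_eq_prime (p := 2) (by rw [pow_two, hz2]) hz1] at h3
      rw [h1]
      exact (Nat.mul_le_mul h3 h2).trans (by norm_num)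
    have hlift : ∀ s : G, t * s * t⁻¹ * s⁻¹ ∈ N → ∃ n₀ ∈ N, n₀ * s ∈ K := by
      intro s hs
      obtain ⟨n₀, hn₀, he⟩ := hD.exists_adjust_sixteen h16 htA htC (hD.comm_fixed htA hs)
      exact ⟨n₀, hn₀, hD.adjust htA hn₀ he.symm⟩
    refine ⟨?_, (t : G ⧸ N), ?_⟩
    · obtain ⟨n₀, hn₀, hc'⟩ := hlift c (hcq t)
      set c' := n₀ * c with hc'def
      rw [← inf_cent_congr hD.elem (b := c') (c := c) (by rw [hc'def, mul_inv_cancel_right]; exact hn₀)]
      by_contra hgt
      push Not at hgt
      have hcard := hD.elem.card_eq_range_mul c' N le_rfl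
      rw [h16] at hcard
      set R := (hD.elem.delta c' N le_rfl).range
      have hR2 : Nat.card R ≤ 2 := by
        rcases card_cases hD.pgroup (N ⊓ Subgroup.centralizer ({c'} : Set G)) with h | h | h | h | h
        · omega
        · omega
        · omega
        · rw [h] at hcard; omega
        · by_contra hR
          have := Nat.mul_le_mul (not_le.1 hR) h
          omega
      -- `c'` centralises `E`
      have hc'e : c' * e = e * c' := by
        obtain ⟨m, hm, hme⟩ := hD.exists_adjust_sixteen h16 htA htC heE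
        set k := c' * m * c'⁻¹ * m⁻¹ with hk
        have hkR : k ∈ R := ⟨⟨m, hm⟩, rfl⟩
        have htm : t * m * t⁻¹ ∈ N := hD.elem.conj_mem t hm
        have hkt : t * k * t⁻¹ ∈ R := by
          refine ⟨⟨t * m * t⁻¹, htm⟩, ?_⟩
          rw [Elem.delta_apply]
          have h1 : c' * t = t * c' := mem_cent.1 hc'
          have h2 : t⁻¹ * c'⁻¹ = c'⁻¹ * t⁻¹ := by rw [← mul_inv_rev, h1, mul_inv_rev]
          calc c' * (t * m * t⁻¹) * c'⁻¹ * (t * m * t⁻¹)⁻¹
              = (c' * t) * m * (t⁻¹ * c'⁻¹) * t * m⁻¹ * t⁻¹ := by group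
            _ = (t * c') * m * (c'⁻¹ * t⁻¹) * t * m⁻¹ * t⁻¹ := by rw [h1, h2]
            _ = t * k * t⁻¹ := by rw [hk]; group
        have hkfix : t * k * t⁻¹ = k := by
          by_cases hk1 : k = 1
          · simp [hk1]
          by_contra hne
          have := four_le_card hD.pgroup hkt hkR (fun h => hk1 (conj_eq_one_iff.1 h)) hk1 hne
          omega
        have hcm : c' * m * c'⁻¹ = k * m := by rw [hk]; group
        rw [← mul_inv_eq_iff_eq_mul, ← hme]
        have h1 : c' * t = t * c' := mem_cent.1 hc'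
        calc c' * (t * m * t⁻¹ * m⁻¹) * c'⁻¹
            = (c' * t) * m * t⁻¹ * m⁻¹ * c'⁻¹ := by group
          _ = t * (c' * m * c'⁻¹) * (c' * t⁻¹ * c'⁻¹) * (c' * m * c'⁻¹)⁻¹ := by rw [h1]; group
          _ = t * (k * m) * t⁻¹ * (k * m)⁻¹ := by
              rw [hcm, show c' * t⁻¹ * c'⁻¹ = t⁻¹ by
                rw [hD.t_inv htA, h1, mul_inv_cancel_right]]
          _ = (t * k * t⁻¹) * (t * m * t⁻¹ * m⁻¹) * k⁻¹ := by group
          _ = k * (t * m * t⁻¹ * m⁻¹) * k⁻¹ := by rw [hkfix]
          _ = t * m * t⁻¹ * m⁻¹ := by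
              rw [hD.elem.comm k (hk ▸ hD.elem.comm_mem c' hm) _ (hD.elem.comm_mem t hm),
                mul_inv_cancel_right]
      have hc'A := hcenE c' (mem_cent.1 hc') hc'e
      have hc'C : c' ∉ Subgroup.centralizer (N : Set G) := by
        rw [hC]; exact fun h => hcN (by simpa [hc'def] using mul_mem (inv_mem hn₀) h)
      have := (hD.basic hc'A hc'C).1
      omega
    · set D := Subgroup.centralizer ({(t : G ⧸ N)} : Set (G ⧸ N))
      have hDle : D ≤ K.map (QuotientGroup.mk' N) := by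
        intro q hq
        obtain ⟨s, rfl⟩ := QuotientGroup.mk'_surjective N q
        obtain ⟨n₀, hn₀, hs'⟩ := hlift s (hD.comm_mem_of_quot (mem_cent.1 hq))
        exact ⟨n₀ * s, hs', by simp [(QuotientGroup.eq_one_iff n₀).2 hn₀]⟩
      refine (Subgroup.card_le_of_le hDle).trans ?_
      have h1 := card_eq_map_mul_inf (QuotientGroup.mk' N) K
      rw [QuotientGroup.ker_mk', inf_comm, hE4] at h1
      omega
  · -- `|A ∩ C| = 2`
    obtain ⟨u, huA, huC, hutC⟩ : ∃ u ∈ A, u ∉ Subgroup.centralizer (N : Set G) ∧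
        t * u ∉ Subgroup.centralizer (N : Set G) := by
      by_contra h
      push Not at h
      have hsub : (A : Set G) ⊆ ((A ⊓ Subgroup.centralizer (N : Set G) : Subgroup G) : Set G) ∪
          (fun a => t * a) '' ((A ⊓ Subgroup.centralizer (N : Set G) : Subgroup G) : Set G) := by
        intro a ha
        by_cases haC : a ∈ Subgroup.centralizer (N : Set G)
        · exact Or.inl ⟨ha, haC⟩
        · exact Or.inr ⟨t * a, ⟨mul_mem htA ha, h a ha haC⟩, by
            show t * (t * a) = a
            rw [← mul_assoc, hD.aelem t htA, one_mul]⟩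
      have h1 := (Set.ncard_le_ncard hsub (Set.toFinite _)).trans (Set.ncard_union_le _ _)
      rw [Set.ncard_image_of_injective _ (mul_right_injective t), ← Nat.card_coe_set_eq,
        ← Nat.card_coe_set_eq] at h1
      simp only [SetLike.coe_sort_coe] at h1
      rw [hD.a8, hF] at h1
      omega
    obtain ⟨a, haA, hac⟩ := hD.exists_in_AN h16 htA htC huA huC hutC (hcq t) (hcq u)
    have haC : a ∉ Subgroup.centralizer (N : Set G) := fun h => hcN (by
      rw [hC] at h
      simpa using mul_mem (inv_mem hac) h)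
    refine ⟨(inf_cent_congr hD.elem hac) ▸ (hD.basic haA haC).1.le, ?_⟩
    -- a second element of `A`
    obtain ⟨v, hvA, hvC, havC⟩ : ∃ v ∈ A, v ∉ Subgroup.centralizer (N : Set G) ∧
        a * v ∉ Subgroup.centralizer (N : Set G) := by
      by_cases h : a * t ∈ Subgroup.centralizer (N : Set G)
      · refine ⟨u, huA, huC, fun h' => hutC ?_⟩
        have := mul_mem (inv_mem h) h'
        rw [mul_inv_rev, hD.t_inv htA, mul_assoc, ← mul_assoc a⁻¹, inv_mul_cancel, one_mul] at this
        exact this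
      · exact ⟨t, htA, htC, h⟩
    refine ⟨(v : G ⧸ N), ?_⟩
    have hDle : Subgroup.centralizer ({(v : G ⧸ N)} : Set (G ⧸ N)) ≤
        A.map (QuotientGroup.mk' N) := by
      intro q hq
      obtain ⟨s, rfl⟩ := QuotientGroup.mk'_surjective N q
      have hqa : (s : G ⧸ N) * (a : G ⧸ N) = (a : G ⧸ N) * (s : G ⧸ N) := by
        have hca : (a : G ⧸ N) = (c : G ⧸ N) := by
          have := (QuotientGroup.eq_one_iff (a * c⁻¹)).2 hac
          rwa [QuotientGroup.mk_mul, QuotientGroup.mk_inv, mul_inv_eq_one] at this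
        rw [hca]; exact Subgroup.mem_center_iff.1 hcc _
      obtain ⟨a', ha', ha's⟩ := hD.exists_in_AN h16 haA haC hvA hvC havC
        (hD.comm_mem_of_quot hqa) (hD.comm_mem_of_quot (mem_cent.1 hq))
      refine ⟨a', ha', ?_⟩
      have := (QuotientGroup.eq_one_iff (a' * s⁻¹)).2 ha's
      rwa [QuotientGroup.mk_mul, QuotientGroup.mk_inv, mul_inv_eq_one] at this
    refine (Subgroup.card_le_of_le hDle).trans ?_
    have h1 := card_eq_map_mul_inf (QuotientGroup.mk' N) A
    rw [QuotientGroup.ker_mk'] at h1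
    have h2 : Nat.card ↥(A ⊓ N) = 2 := by rw [← hC]; exact hF
    rw [h2, hD.a8] at h1
    omega

end Data

end CfsgLib.SelfCentEight
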