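import Cfsg.Agent.Lib.SelfCentEight.Eight
import Mathlib.GroupTheory.SpecificGroups.Quaternion
import Mathlib.GroupTheory.NoncommPiCoprod

/-!
A self-centralizing central product of two quaternion groups contains a self-centralizing
elementary abelian subgroup of order eight.
-/

set_option autoImplicit false
set_option linter.style.haveILetI false
set_option linter.unusedSectionVars false

namespace CfsgLib.SelfCentEight.Plus32

universe u

variable {S : Type u} [Group S]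

/-- Adjoining an involution that normalizes `M`. -/
def adj (M : Subgroup S) (p : S) (hp : p * p = 1) (hn : ∀ m ∈ M, p * m * p ∈ M) : Subgroup S where
  carrier := {x | x ∈ M ∨ x * p ∈ M}
  one_mem' := Or.inl M.one_mem
  mul_mem' := fun {x y} hx hy => by
    rcases hx with h1 | h1 <;> rcases hy with h2 | h2
    · exact Or.inl (M.mul_mem h1 h2)
    · exact Or.inr (by rw [mul_assoc]; exact M.mul_mem h1 h2)
    · refine Or.inr ?_
      have e : x * y * p = x * p * (p * y * p) := by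
        rw [show x * p * (p * y * p) = x * (p * p) * y * p by group, hp, mul_one]
      rw [e]
      exact M.mul_mem h1 (hn y h2)
    · refine Or.inl ?_
      have e : x * y = x * p * (p * (y * p) * p) := by
        rw [show x * p * (p * (y * p) * p) = x * (p * p) * y * (p * p) by group, hp, mul_one,
          mul_one]
      rw [e]
      exact M.mul_mem h1 (hn _ h2)
  inv_mem' := fun {x} hx => by
    rcases hx with h1 | h1
    · exact Or.inl (M.inv_mem h1)
    · refine Or.inr ?_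
      have e : x⁻¹ * p = p * (x * p)⁻¹ * p := by
        rw [mul_inv_rev, ← mul_assoc, mul_inv_cancel, one_mul]
      rw [e]
      exact hn _ (M.inv_mem h1)

theorem mem_adj {M : Subgroup S} {p : S} {hp : p * p = 1} {hn : ∀ m ∈ M, p * m * p ∈ M} {x : S} :
    x ∈ adj M p hp hn ↔ x ∈ M ∨ x * p ∈ M := Iff.rfl

theorem le_adj {M : Subgroup S} {p : S} (hp : p * p = 1) (hn : ∀ m ∈ M, p * m * p ∈ M) :
    M ≤ adj M p hp hn := fun _ h => Or.inl h

theorem self_mem_adj {M : Subgroup S} {p : S} (hp : p * p = 1) (hn : ∀ m ∈ M, p * m * p ∈ M) :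
    p ∈ adj M p hp hn := Or.inr (by rw [hp]; exact M.one_mem)

theorem card_adj {M : Subgroup S} {p : S} (hp : p * p = 1) (hn : ∀ m ∈ M, p * m * p ∈ M)
    (hpM : p ∉ M) : Nat.card (adj M p hp hn) = 2 * Nat.card M := by
  have hidx : (M.subgroupOf (adj M p hp hn)).index = 2 := by
    rw [Subgroup.index_eq_two_iff]
    refine ⟨⟨p, self_mem_adj hp hn⟩, fun b => ?_⟩
    rcases b.2 with h1 | h1
    · exact Or.inr ⟨h1, fun h2 => hpM ((inv_mul_cancel_left (b : S) p).symm ▸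
        M.mul_mem (M.inv_mem h1) h2)⟩
    · exact Or.inl ⟨h1, fun h2 => hpM ((inv_mul_cancel_left (b : S) p).symm ▸
        M.mul_mem (M.inv_mem h2) h1)⟩
  rw [← (M.subgroupOf (adj M p hp hn)).card_mul_index,
    Nat.card_congr (Subgroup.subgroupOfEquivOfLe (le_adj hp hn)).toEquiv, hidx, mul_comm]

theorem swap_rel {p q z : S} (hp : p * p = 1) (hq : q * q = 1) (hpz : Commute z p)
    (hqz : Commute z q) (h : q * p * q = p * z) : p * q * p = q * z := by
  have h1 : q * p = p * z * q := by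
    calc q * p = q * p * (q * q) := by rw [hq, mul_one]
      _ = q * p * q * q := by group
      _ = p * z * q := by rw [h]
  calc p * q * p = p * (q * p) := by group
    _ = p * p * (z * q) := by rw [h1]; group
    _ = q * z := by rw [hp, one_mul, hqz.eq]

/-- Generators of an extraspecial group of order thirty-two of plus type. -/
structure Gens (Q : Subgroup S) (z p₁ p₂ q₁ q₂ : S) : Prop where
  z_mem : z ∈ Q
  p₁_mem : p₁ ∈ Q
  p₂_mem : p₂ ∈ Q
  q₁_mem : q₁ ∈ Q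
  q₂_mem : q₂ ∈ Q
  card : Nat.card Q = 32
  z_ne : z ≠ 1
  z_sq : z * z = 1
  z_comm : ∀ x ∈ Q, Commute z x
  p₁_sq : p₁ * p₁ = 1
  p₂_sq : p₂ * p₂ = 1
  q₁_sq : q₁ * q₁ = 1
  q₂_sq : q₂ * q₂ = 1
  pp : Commute p₁ p₂
  qq : Commute q₁ q₂
  pq : Commute p₁ q₂
  r11 : q₁ * p₁ * q₁ = p₁ * z
  r21 : q₁ * p₂ * q₁ = p₂ * z
  r22 : q₂ * p₂ * q₂ = p₂ * z

namespace Gens

variable {Q : Subgroup S} {z p₁ p₂ q₁ q₂ : S} (g : Gens Q z p₁ p₂ q₁ q₂)
include g

theorem symm : Gens Q z q₂ q₁ p₂ p₁ where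
  z_mem := g.z_mem
  p₁_mem := g.q₂_mem
  p₂_mem := g.q₁_mem
  q₁_mem := g.p₂_mem
  q₂_mem := g.p₁_mem
  card := g.card
  z_ne := g.z_ne
  z_sq := g.z_sq
  z_comm := g.z_comm
  p₁_sq := g.q₂_sq
  p₂_sq := g.q₁_sq
  q₁_sq := g.p₂_sq
  q₂_sq := g.p₁_sq
  pp := g.qq.symm
  qq := g.pp.symm
  pq := g.pq.symm
  r11 := swap_rel g.p₂_sq g.q₂_sq (g.z_comm _ g.p₂_mem) (g.z_comm _ g.q₂_mem) g.r22
  r21 := swap_rel g.p₂_sq g.q₁_sq (g.z_comm _ g.p₂_mem) (g.z_comm _ g.q₁_mem) g.r21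
  r22 := swap_rel g.p₁_sq g.q₁_sq (g.z_comm _ g.p₁_mem) (g.z_comm _ g.q₁_mem) g.r11

theorem zp_cases {x : S} (hx : x ∈ Subgroup.zpowers z) : x = 1 ∨ x = z := by
  obtain ⟨k, rfl⟩ := Subgroup.mem_zpowers_iff.mp hx
  rcases Int.even_or_odd k with ⟨j, rfl⟩ | ⟨j, rfl⟩
  · left
    rw [zpow_add, ← (Commute.refl z).mul_zpow, g.z_sq, one_zpow]
  · right
    rw [zpow_add, two_mul, zpow_add, ← (Commute.refl z).mul_zpow, g.z_sq, one_zpow, one_mul,
      zpow_one]

theorem fix_z {p : S} (hp : p ∈ Q) (hp2 : p * p = 1) :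
    ∀ m ∈ Subgroup.zpowers z, p * m * p ∈ Subgroup.zpowers z := fun m hm => by
  rcases g.zp_cases hm with rfl | rfl
  · rw [mul_one, hp2]; exact one_mem _
  · rw [← (g.z_comm p hp).eq, mul_assoc, hp2, mul_one]; exact Subgroup.mem_zpowers _

/-- The group `⟨z, p₁⟩`. -/
def B : Subgroup S := adj (Subgroup.zpowers z) p₁ g.p₁_sq (g.fix_z g.p₁_mem g.p₁_sq)

theorem B_cases {x : S} (hx : x ∈ g.B) : x = 1 ∨ x = z ∨ x = p₁ ∨ x = z * p₁ := by
  rcases hx with h | h
  · rcases g.zp_cases h with h | h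
    · exact Or.inl h
    · exact Or.inr (Or.inl h)
  · have e : x = x * p₁ * p₁ := by rw [mul_assoc, g.p₁_sq, mul_one]
    rcases g.zp_cases h with h | h <;> rw [h] at e
    · exact Or.inr (Or.inr (Or.inl (by rwa [one_mul] at e)))
    · exact Or.inr (Or.inr (Or.inr e))

theorem z_mem_B : z ∈ g.B := Or.inl (Subgroup.mem_zpowers z)

theorem p₁_mem_B : p₁ ∈ g.B := self_mem_adj g.p₁_sq _

theorem fix_B : ∀ m ∈ g.B, p₂ * m * p₂ ∈ g.B := fun m hm => by
  have hc : Commute p₂ m := by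
    rcases g.B_cases hm with rfl | rfl | rfl | rfl
    · exact Commute.one_right _
    · exact (g.z_comm _ g.p₂_mem).symm
    · exact g.pp.symm
    · exact (g.z_comm _ g.p₂_mem).symm.mul_right g.pp.symm
  rw [hc.eq, mul_assoc, g.p₂_sq, mul_one]
  exact hm

/-- The group `⟨z, p₁, p₂⟩`. -/
def A : Subgroup S := adj g.B p₂ g.p₂_sq g.fix_B

theorem B_le : g.B ≤ g.A := le_adj _ _

theorem z_mem_A : z ∈ g.A := g.B_le g.z_mem_B

theorem p₁_mem_A : p₁ ∈ g.A := g.B_le g.p₁_mem_B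

theorem p₂_mem_A : p₂ ∈ g.A := self_mem_adj g.p₂_sq _

theorem A_cases {x : S} (hx : x ∈ g.A) :
    ∃ e, (e = 1 ∨ e = z) ∧ (x = e ∨ x = e * p₁ ∨ x = e * p₂ ∨ x = e * (p₁ * p₂)) := by
  rcases hx with h | h
  · rcases g.B_cases h with h | h | h | h
    · exact ⟨1, Or.inl rfl, Or.inl h⟩
    · exact ⟨z, Or.inr rfl, Or.inl h⟩
    · exact ⟨1, Or.inl rfl, Or.inr (Or.inl (by rw [h, one_mul]))⟩
    · exact ⟨z, Or.inr rfl, Or.inr (Or.inl h)⟩
  · have e : x = x * p₂ * p₂ := by rw [mul_assoc, g.p₂_sq, mul_one]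
    rcases g.B_cases h with h | h | h | h <;> rw [h] at e
    · exact ⟨1, Or.inl rfl, Or.inr (Or.inr (Or.inl e))⟩
    · exact ⟨z, Or.inr rfl, Or.inr (Or.inr (Or.inl e))⟩
    · exact ⟨1, Or.inl rfl, Or.inr (Or.inr (Or.inr (by rw [one_mul]; exact e)))⟩
    · exact ⟨z, Or.inr rfl, Or.inr (Or.inr (Or.inr (by rw [e, mul_assoc])))⟩

theorem A_le : g.A ≤ Q := fun x hx => by
  obtain ⟨e, he, h⟩ := g.A_cases hx
  have heQ : e ∈ Q := by rcases he with rfl | rfl; exacts [Q.one_mem, g.z_mem]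
  rcases h with rfl | rfl | rfl | rfl
  exacts [heQ, Q.mul_mem heQ g.p₁_mem, Q.mul_mem heQ g.p₂_mem,
    Q.mul_mem heQ (Q.mul_mem g.p₁_mem g.p₂_mem)]

/-- An element of `A` commuting with `p₁`, `p₂` and `z`. -/
theorem A_comm {x y : S} (hx : x ∈ g.A) (hy : y ∈ g.A) : Commute x y := by
  have key : ∀ w, Commute w z → Commute w p₁ → Commute w p₂ → ∀ y ∈ g.A, Commute w y := by
    intro w h1 h2 h3 y hy
    obtain ⟨e, he, h⟩ := g.A_cases hy
    have hwe : Commute w e := by rcases he with rfl | rfl; exacts [Commute.one_right w, h1]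
    rcases h with rfl | rfl | rfl | rfl
    exacts [hwe, hwe.mul_right h2, hwe.mul_right h3, hwe.mul_right (h2.mul_right h3)]
  exact key x (g.z_comm x (g.A_le hx)).symm
    (key p₁ (g.z_comm _ g.p₁_mem).symm (Commute.refl _) g.pp x hx).symm
    (key p₂ (g.z_comm _ g.p₂_mem).symm g.pp.symm (Commute.refl _) x hx).symm y hy

theorem A_sq {x : S} (hx : x ∈ g.A) : x * x = 1 := by
  obtain ⟨e, he, h⟩ := g.A_cases hx
  have heA : e ∈ g.A := by rcases he with rfl | rfl; exacts [one_mem _, g.z_mem_A]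
  have he2 : e * e = 1 := by rcases he with rfl | rfl; exacts [one_mul 1, g.z_sq]
  rcases h with rfl | rfl | rfl | rfl
  · exact he2
  · rw [(g.A_comm g.p₁_mem_A heA).mul_mul_mul_comm, he2, g.p₁_sq, one_mul]
  · rw [(g.A_comm g.p₂_mem_A heA).mul_mul_mul_comm, he2, g.p₂_sq, one_mul]
  · rw [(g.A_comm (mul_mem g.p₁_mem_A g.p₂_mem_A) heA).mul_mul_mul_comm, he2,
      g.pp.symm.mul_mul_mul_comm, g.p₁_sq, g.p₂_sq, one_mul, one_mul]

theorem moved {p q : S} (hq : q * q = 1) (h : q * p * q = p * z) : ¬ Commute q p := fun hc => by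
  rw [hc.eq, mul_assoc, hq, mul_one] at h
  exact g.z_ne (mul_eq_left.mp h.symm)

theorem card_A : Nat.card g.A = 8 := by
  have h1 : p₁ ∉ Subgroup.zpowers z := fun h => g.moved g.q₁_sq g.r11 (by
    rcases g.zp_cases h with h | h <;> rw [h]
    exacts [Commute.one_right _, (g.z_comm _ g.q₁_mem).symm])
  have h2 : p₂ ∉ g.B := fun h => g.moved g.q₂_sq g.r22 (by
    rcases g.B_cases h with h | h | h | h <;> rw [h]
    exacts [Commute.one_right _, (g.z_comm _ g.q₂_mem).symm, g.pq.symm,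
      (g.z_comm _ g.q₂_mem).symm.mul_right g.pq.symm])
  rw [A, card_adj _ _ h2, B, card_adj _ _ h1, Nat.card_zpowers,
    orderOf_eq_prime (p := 2) (by rw [pow_two]; exact g.z_sq) g.z_ne]

theorem fix_A_of {q : S} (hq : q ∈ Q) (hq2 : q * q = 1) (h1 : q * p₁ * q ∈ g.A)
    (h2 : q * p₂ * q ∈ g.A) : ∀ m ∈ g.A, q * m * q ∈ g.A := fun m hm => by
  obtain ⟨e, he, h⟩ := g.A_cases hm
  have hee : q * e * q ∈ g.A := by
    rcases he with rfl | rfl
    · rw [mul_one, hq2]; exact one_mem _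
    · rw [← (g.z_comm q hq).eq, mul_assoc, hq2, mul_one]; exact g.z_mem_A
  have hmul : ∀ x y, q * (x * y) * q = q * x * q * (q * y * q) := fun x y => by
    rw [show q * x * q * (q * y * q) = q * x * (q * q) * y * q by group, hq2, mul_one]
    group
  rcases h with rfl | rfl | rfl | rfl
  · exact hee
  · rw [hmul]; exact mul_mem hee h1
  · rw [hmul]; exact mul_mem hee h2
  · rw [hmul, hmul p₁ p₂]; exact mul_mem hee (mul_mem h1 h2)

theorem fix₁ : ∀ m ∈ g.A, q₁ * m * q₁ ∈ g.A :=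
  g.fix_A_of g.q₁_mem g.q₁_sq (by rw [g.r11]; exact mul_mem g.p₁_mem_A g.z_mem_A)
    (by rw [g.r21]; exact mul_mem g.p₂_mem_A g.z_mem_A)

theorem fix₂ : ∀ m ∈ g.A, q₂ * m * q₂ ∈ g.A :=
  g.fix_A_of g.q₂_mem g.q₂_sq
    (by rw [g.pq.symm.eq, mul_assoc, g.q₂_sq, mul_one]; exact g.p₁_mem_A)
    (by rw [g.r22]; exact mul_mem g.p₂_mem_A g.z_mem_A)

theorem coset_cases [Finite S] {x : S} (hx : x ∈ Q) :
    x ∈ g.A ∨ x * q₁ ∈ g.A ∨ x * q₂ ∈ g.A ∨ x * q₂ * q₁ ∈ g.A := by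
  have hq₁A : q₁ ∉ g.A := fun h => g.moved g.q₁_sq g.r11 (g.A_comm h g.p₁_mem_A)
  set T := adj g.A q₁ g.q₁_sq g.fix₁ with hT
  have hq₂T : q₂ ∉ T := by
    rintro (h | h)
    · exact g.moved g.q₂_sq g.r22 (g.A_comm h g.p₂_mem_A)
    · have hc : Commute p₁ (q₂ * q₁) := g.A_comm g.p₁_mem_A h
      have h2 := g.pq.symm.inv_left.symm.mul_right hc
      rw [inv_mul_cancel_left] at h2
      exact g.moved g.q₁_sq g.r11 h2.symm
  have hfix : ∀ m ∈ T, q₂ * m * q₂ ∈ T := by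
    rintro m (h | h)
    · exact Or.inl (g.fix₂ m h)
    · refine Or.inr ?_
      have e : q₂ * m * q₂ * q₁ = q₂ * (m * q₁) * q₂ := by
        rw [mul_assoc (q₂ * m), ← g.qq.eq]
        group
      rw [e]
      exact g.fix₂ _ h
  set U := adj T q₂ g.q₂_sq hfix with hU
  have hTQ : T ≤ Q := by
    rintro m (h | h)
    · exact g.A_le h
    · have := Q.mul_mem (g.A_le h) g.q₁_mem
      rwa [mul_assoc, g.q₁_sq, mul_one] at this
  have hUQ : U ≤ Q := by
    rintro m (h | h)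
    · exact hTQ h
    · have := Q.mul_mem (hTQ h) g.q₂_mem
      rwa [mul_assoc, g.q₂_sq, mul_one] at this
  have hUQ' : U = Q := Subgroup.eq_of_le_of_card_ge hUQ (by
    rw [hU, card_adj _ _ hq₂T, hT, card_adj _ _ hq₁A, g.card_A, g.card])
  rcases hUQ'.ge hx with h | h
  · rcases h with h | h
    · exact Or.inl h
    · exact Or.inr (Or.inl h)
  · rcases h with h | h
    · exact Or.inr (Or.inr (Or.inl h))
    · exact Or.inr (Or.inr (Or.inr h))

theorem mem_A_of_commute [Finite S] {x : S} (hx : x ∈ Q) (h1 : Commute x p₁)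
    (h2 : Commute x p₂) : x ∈ g.A := by
  have key : ∀ (q p : S), p ∈ g.A → Commute x p → x * q ∈ g.A → Commute q p := by
    intro q p hp hxp hxq
    have := hxp.inv_left.mul_left (g.A_comm hxq hp)
    rwa [inv_mul_cancel_left] at this
  rcases g.coset_cases hx with h | h | h | h
  · exact h
  · exact absurd (key q₁ p₁ g.p₁_mem_A h1 h) (g.moved g.q₁_sq g.r11)
  · exact absurd (key q₂ p₂ g.p₂_mem_A h2 h) (g.moved g.q₂_sq g.r22)
  · rw [mul_assoc] at h
    have h3 := key (q₂ * q₁) p₁ g.p₁_mem_A h1 h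
    have h4 := g.pq.symm.inv_left.mul_left h3
    rw [inv_mul_cancel_left] at h4
    exact absurd h4 (g.moved g.q₁_sq g.r11)

theorem commute_of_gens [Finite S] {w : S} (h0 : Commute w z) (h1 : Commute w p₁)
    (h2 : Commute w p₂) (h3 : Commute w q₁) (h4 : Commute w q₂) {x : S} (hx : x ∈ Q) :
    Commute w x := by
  have hA : ∀ y ∈ g.A, Commute w y := fun y hy => by
    obtain ⟨e, he, h⟩ := g.A_cases hy
    have hwe : Commute w e := by rcases he with rfl | rfl; exacts [Commute.one_right w, h0]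
    rcases h with rfl | rfl | rfl | rfl
    exacts [hwe, hwe.mul_right h1, hwe.mul_right h2, hwe.mul_right (h1.mul_right h2)]
  rcases g.coset_cases hx with h | h | h | h
  · exact hA x h
  · have := (hA _ h).mul_right h3
    rwa [mul_assoc, g.q₁_sq, mul_one] at this
  · have := (hA _ h).mul_right h4
    rwa [mul_assoc, g.q₂_sq, mul_one] at this
  · have := ((hA _ h).mul_right h3).mul_right h4
    rwa [show x * q₂ * q₁ * q₁ * q₂ = x by
      rw [mul_assoc (x * q₂), g.q₁_sq, mul_one, mul_assoc, g.q₂_sq, mul_one]] at this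

theorem centre_cases [Finite S] {x : S} (hx : x ∈ Q) (h : ∀ y ∈ Q, Commute y x) :
    x = 1 ∨ x = z := by
  have hA := g.mem_A_of_commute hx (h _ g.p₁_mem).symm (h _ g.p₂_mem).symm
  obtain ⟨e, he, hcase⟩ := g.A_cases hA
  have heq : ∀ {p q : S}, q ∈ Q → x = e * p → Commute q p := by
    intro p q hq hxe
    have hqe : Commute q e := by
      rcases he with rfl | rfl
      exacts [Commute.one_right q, (g.z_comm q hq).symm]
    have := hqe.inv_right.mul_right (hxe ▸ h q hq)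
    rwa [inv_mul_cancel_left] at this
  rcases hcase with h1 | h1 | h1 | h1
  · exact h1 ▸ he
  · exact absurd (heq g.q₁_mem h1) (g.moved g.q₁_sq g.r11)
  · exact absurd (heq g.q₁_mem h1) (g.moved g.q₁_sq g.r21)
  · have h2 := heq g.q₂_mem h1
    have h3 := g.pq.symm.inv_right.mul_right h2
    rw [inv_mul_cancel_left] at h3
    exact absurd h3 (g.moved g.q₂_sq g.r22)

/-- An element outside `Q` normalizing `Q` and centralizing `A` moves `q₂` by `p₁`. -/
theorem conj_q₂ [Finite S] (hC : Subgroup.centralizer (Q : Set S) ≤ Q)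
    (hz : z ∈ Subgroup.center S) {c : S} (hcQ : c ∉ Q) (hn : ∀ x ∈ Q, c * x * c⁻¹ ∈ Q)
    (hA : ∀ x ∈ g.A, Commute c x) :
    c * q₂ * c⁻¹ = q₂ * p₁ ∨ c * q₂ * c⁻¹ = q₂ * p₁ * z := by
  have hzc : ∀ w, Commute w z := fun w => Subgroup.mem_center_iff.mp hz w
  have hdiff : ∀ q ∈ Q, q * q = 1 → (∀ p ∈ g.A, q * p * q = p ∨ q * p * q = p * z) →
      q * (c * q * c⁻¹) ∈ g.A := by
    intro q hq hq2 hrel
    refine g.mem_A_of_commute (Q.mul_mem hq (hn q hq)) ?_ ?_ <;>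
    · have key : ∀ p ∈ g.A, Commute (q * (c * q * c⁻¹)) p := by
        intro p hp
        show q * (c * q * c⁻¹) * p = p * (q * (c * q * c⁻¹))
        have e1 : c⁻¹ * p = p * c⁻¹ := (hA p hp).inv_left.eq
        rcases hrel p hp with h | h
        · have hqp : q * p = p * q := by
            calc q * p = q * p * q * q := by rw [mul_assoc _ q q, hq2, mul_one]
              _ = p * q := by rw [h]
          calc q * (c * q * c⁻¹) * p = q * c * q * (c⁻¹ * p) := by group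
            _ = q * c * (q * p) * c⁻¹ := by rw [e1]; group
            _ = q * (c * p) * q * c⁻¹ := by rw [hqp]; group
            _ = q * p * c * q * c⁻¹ := by rw [(hA p hp).eq]; group
            _ = p * (q * (c * q * c⁻¹)) := by rw [hqp]; group
        · have hqp : q * p = p * z * q := by
            calc q * p = q * p * q * q := by rw [mul_assoc _ q q, hq2, mul_one]
              _ = p * z * q := by rw [h]
          calc q * (c * q * c⁻¹) * p = q * c * q * (c⁻¹ * p) := by group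
            _ = q * c * (q * p) * c⁻¹ := by rw [e1]; group
            _ = q * (c * p) * z * q * c⁻¹ := by rw [hqp]; group
            _ = q * p * (c * z) * q * c⁻¹ := by rw [(hA p hp).eq]; group
            _ = p * z * (q * z) * c * q * c⁻¹ := by rw [(hzc c).eq, hqp]; group
            _ = p * (z * z) * q * c * q * c⁻¹ := by rw [(hzc q).eq]; group
            _ = p * (q * (c * q * c⁻¹)) := by rw [g.z_sq]; group
      first | exact key _ g.p₁_mem_A | exact key _ g.p₂_mem_A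
  have hrelA : ∀ q, q * q = 1 → Commute q z → (q * p₁ * q = p₁ ∨ q * p₁ * q = p₁ * z) →
      (q * p₂ * q = p₂ ∨ q * p₂ * q = p₂ * z) → ∀ p ∈ g.A, q * p * q = p ∨ q * p * q = p * z := by
    intro q hq2 hqz h1 h2 p hp
    obtain ⟨e, he, h⟩ := g.A_cases hp
    have hqe : Commute q e := by rcases he with rfl | rfl; exacts [Commute.one_right q, hqz]
    have hmul : ∀ x y, q * (x * y) * q = q * x * q * (q * y * q) := fun x y => by
      rw [show q * x * q * (q * y * q) = q * x * (q * q) * y * q by group, hq2, mul_one]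
      group
    have hee : q * e * q = e := by rw [hqe.eq, mul_assoc, hq2, mul_one]
    rcases h with rfl | rfl | rfl | rfl
    · exact Or.inl hee
    · rw [hmul, hee]
      rcases h1 with h1 | h1 <;> rw [h1]
      exacts [Or.inl rfl, Or.inr (mul_assoc _ _ _).symm]
    · rw [hmul, hee]
      rcases h2 with h2 | h2 <;> rw [h2]
      exacts [Or.inl rfl, Or.inr (mul_assoc _ _ _).symm]
    · rw [hmul, hee, hmul p₁ p₂]
      rcases h1 with h1 | h1 <;> rcases h2 with h2 | h2 <;> rw [h1, h2]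
      · exact Or.inl rfl
      · exact Or.inr (by group)
      · refine Or.inr ?_
        rw [mul_assoc p₁ z, ← (hzc p₂).eq]
        group
      · refine Or.inl ?_
        rw [mul_assoc p₁ z, ← mul_assoc z p₂, ← (hzc p₂).eq, mul_assoc p₂ z z, g.z_sq, mul_one]
  -- the two differences
  set d₂ := q₂ * (c * q₂ * c⁻¹) with hd₂
  have hd₂A : d₂ ∈ g.A := hdiff q₂ g.q₂_mem g.q₂_sq (hrelA q₂ g.q₂_sq (hzc q₂)
    (Or.inl (by rw [g.pq.symm.eq, mul_assoc, g.q₂_sq, mul_one])) (Or.inr g.r22))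
  set d₁ := q₁ * (c * q₁ * c⁻¹) with hd₁
  have hd₁A : d₁ ∈ g.A := hdiff q₁ g.q₁_mem g.q₁_sq (hrelA q₁ g.q₁_sq (hzc q₁)
    (Or.inr g.r11) (Or.inr g.r21))
  have hy₂ : c * q₂ * c⁻¹ = q₂ * d₂ := by rw [hd₂, ← mul_assoc q₂ q₂, g.q₂_sq, one_mul]
  have hy₁ : c * q₁ * c⁻¹ = q₁ * d₁ := by rw [hd₁, ← mul_assoc q₁ q₁, g.q₁_sq, one_mul]
  have hsqc : ∀ q, q * q = 1 → ∀ d ∈ g.A, c * q * c⁻¹ = q * d → Commute q d := by
    intro q hq2 d hd he
    have h1 : q * d * (q * d) = 1 := by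
      rw [← he, show c * q * c⁻¹ * (c * q * c⁻¹) = c * (q * q) * c⁻¹ by group, hq2, mul_one,
        mul_inv_cancel]
    show q * d = d * q
    calc q * d = (q * d)⁻¹ := eq_inv_of_mul_eq_one_left h1
      _ = d * q := by
        rw [mul_inv_rev, inv_eq_of_mul_eq_one_left hq2, inv_eq_of_mul_eq_one_left (g.A_sq hd)]
  have hc₂ := hsqc q₂ g.q₂_sq d₂ hd₂A hy₂
  have hd₂' : (d₂ = 1 ∨ d₂ = z) ∨ d₂ = p₁ ∨ d₂ = z * p₁ := by
    obtain ⟨e, he, h⟩ := g.A_cases hd₂A
    have hqe : Commute q₂ e := by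
      rcases he with rfl | rfl; exacts [Commute.one_right _, hzc q₂]
    have hcan : ∀ {p}, d₂ = e * p → Commute q₂ p := fun {p} hp => by
      have := hqe.inv_right.mul_right (hp ▸ hc₂)
      rwa [inv_mul_cancel_left] at this
    rcases h with h | h | h | h
    · exact Or.inl (h ▸ he)
    · rcases he with rfl | rfl
      · exact Or.inr (Or.inl (by rw [h, one_mul]))
      · exact Or.inr (Or.inr h)
    · exact absurd (hcan h) (g.moved g.q₂_sq g.r22)
    · have := g.pq.symm.inv_right.mul_right (hcan h)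
      rw [inv_mul_cancel_left] at this
      exact absurd this (g.moved g.q₂_sq g.r22)
  rcases hd₂' with hd | hd | hd
  swap
  · exact Or.inl (by rw [hy₂, hd])
  swap
  · exact Or.inr (by rw [hy₂, hd, ← (hzc p₁).eq, mul_assoc])
  -- otherwise `c` induces an inner automorphism
  exfalso
  have hd₂z : ∀ w, Commute w d₂ := fun w => by
    rcases hd with hd | hd <;> rw [hd]
    exacts [Commute.one_right w, hzc w]
  have hd₁q₂ : Commute d₁ q₂ := by
    have h1 : Commute (c * q₁ * c⁻¹) (c * q₂ * c⁻¹) := by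
      show c * q₁ * c⁻¹ * (c * q₂ * c⁻¹) = c * q₂ * c⁻¹ * (c * q₁ * c⁻¹)
      calc c * q₁ * c⁻¹ * (c * q₂ * c⁻¹) = c * (q₁ * q₂) * c⁻¹ := by group
        _ = c * (q₂ * q₁) * c⁻¹ := by rw [g.qq.eq]
        _ = c * q₂ * c⁻¹ * (c * q₁ * c⁻¹) := by group
    rw [hy₁, hy₂] at h1
    have h2 : Commute (q₁ * d₁) q₂ := by
      have := h1.mul_right (hd₂z (q₁ * d₁))
      rwa [mul_assoc, g.A_sq hd₂A, mul_one] at this
    have := g.qq.inv_left.mul_left h2
    rwa [inv_mul_cancel_left] at this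
  have hd₁z : d₁ = 1 ∨ d₁ = z := by
    obtain ⟨e, he, h⟩ := g.A_cases hd₁A
    have hqe : ∀ q, Commute q e := fun q => by
      rcases he with rfl | rfl; exacts [Commute.one_right _, hzc q]
    have hcan : ∀ {p q}, d₁ = e * p → Commute q d₁ → Commute q p := fun {p q} hp hq => by
      have := (hqe q).inv_right.mul_right (hp ▸ hq)
      rwa [inv_mul_cancel_left] at this
    have hc₁ := hsqc q₁ g.q₁_sq d₁ hd₁A hy₁
    rcases h with h | h | h | h
    · exact h ▸ he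
    · exact absurd (hcan h hc₁) (g.moved g.q₁_sq g.r11)
    · exact absurd (hcan h hc₁) (g.moved g.q₁_sq g.r21)
    · have h2 := g.pq.symm.inv_right.mul_right (hcan h hd₁q₂.symm)
      rw [inv_mul_cancel_left] at h2
      exact absurd h2 (g.moved g.q₂_sq g.r22)
  have hsum : ∃ w ∈ g.A, w * q₁ * w = c * q₁ * c⁻¹ ∧ w * q₂ * w = c * q₂ * c⁻¹ := by
    have s11 := swap_rel g.p₁_sq g.q₁_sq (g.z_comm _ g.p₁_mem) (g.z_comm _ g.q₁_mem) g.r11
    have s21 := swap_rel g.p₂_sq g.q₁_sq (g.z_comm _ g.p₂_mem) (g.z_comm _ g.q₁_mem) g.r21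
    have s22 := swap_rel g.p₂_sq g.q₂_sq (g.z_comm _ g.p₂_mem) (g.z_comm _ g.q₂_mem) g.r22
    have s12 : p₁ * q₂ * p₁ = q₂ := by rw [g.pq.eq, mul_assoc, g.p₁_sq, mul_one]
    rw [hy₁, hy₂]
    rcases hd₁z with h1 | h1 <;> rcases hd with h2 | h2 <;> rw [h1, h2]
    · exact ⟨1, one_mem _, by simp, by simp⟩
    · refine ⟨p₂ * p₁, mul_mem g.p₂_mem_A g.p₁_mem_A, ?_, ?_⟩
      · calc p₂ * p₁ * q₁ * (p₂ * p₁) = p₂ * p₁ * q₁ * (p₁ * p₂) := by rw [g.pp.eq]
          _ = p₂ * (p₁ * q₁ * p₁) * p₂ := by group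
          _ = p₂ * q₁ * (z * p₂) := by rw [s11]; group
          _ = p₂ * q₁ * p₂ * z := by rw [← (hzc p₂).eq]; group
          _ = q₁ * 1 := by rw [s21, mul_assoc, g.z_sq]
      · calc p₂ * p₁ * q₂ * (p₂ * p₁) = p₂ * p₁ * q₂ * (p₁ * p₂) := by rw [g.pp.eq]
          _ = p₂ * (p₁ * q₂ * p₁) * p₂ := by group
          _ = q₂ * z := by rw [s12, s22]
    · exact ⟨p₁, g.p₁_mem_A, s11, by rw [s12, mul_one]⟩
    · exact ⟨p₂, g.p₂_mem_A, s21, s22⟩
  obtain ⟨w, hw, hw₁, hw₂⟩ := hsum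
  have hwi : w⁻¹ = w := inv_eq_of_mul_eq_one_left (g.A_sq hw)
  have hcw : ∀ q, w * q * w = c * q * c⁻¹ → Commute (w * c) q := fun q hq => by
    show w * c * q = q * (w * c)
    calc w * c * q = w * (c * q * c⁻¹) * c := by group
      _ = w * w * q * w * c := by rw [← hq]; group
      _ = q * (w * c) := by rw [g.A_sq hw]; group
  have hmem : w * c ∈ Q := hC (Subgroup.mem_centralizer_iff.mpr fun x hx =>
    (g.commute_of_gens (hzc _) ((g.A_comm hw g.p₁_mem_A).mul_left (hA _ g.p₁_mem_A))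
      ((g.A_comm hw g.p₂_mem_A).mul_left (hA _ g.p₂_mem_A)) (hcw _ hw₁) (hcw _ hw₂) hx).eq.symm)
  have := Q.mul_mem (g.A_le hw) hmem
  rw [← mul_assoc, g.A_sq hw, one_mul] at this
  exact hcQ this

theorem exists_normalizing [Finite S] (hS : IsPGroup 2 S)
    (h : ¬ Subgroup.centralizer (g.A : Set S) ≤ g.A) :
    ∃ c, c ∉ Q ∧ (∀ x ∈ Q, c * x * c⁻¹ ∈ Q) ∧ ∀ x ∈ g.A, Commute c x := by
  haveI := Fact.mk Nat.prime_two
  haveI := hS.isNilpotent
  set C := Subgroup.centralizer (g.A : Set S) with hCdef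
  have hQnorm : Q ≤ Subgroup.normalizer (C : Set S) := by
    intro x hx
    have hA' : ∀ y ∈ g.A, x⁻¹ * y * x ∈ g.A ∧ x * y * x⁻¹ ∈ g.A := by
      have hgen : ∀ w ∈ Q, ∀ y ∈ g.A, w * y * w⁻¹ ∈ g.A := by
        intro w hw y hy
        have h1 : ∀ y ∈ g.A, q₁ * y * q₁⁻¹ ∈ g.A := fun y hy => by
          rw [inv_eq_of_mul_eq_one_left g.q₁_sq]; exact g.fix₁ y hy
        have h2 : ∀ y ∈ g.A, q₂ * y * q₂⁻¹ ∈ g.A := fun y hy => by
          rw [inv_eq_of_mul_eq_one_left g.q₂_sq]; exact g.fix₂ y hy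
        have hself : ∀ a ∈ g.A, ∀ y ∈ g.A, a * y * a⁻¹ ∈ g.A := fun a ha y hy =>
          mul_mem (mul_mem ha hy) (inv_mem ha)
        rcases g.coset_cases hw with hh | hh | hh | hh
        · exact hself w hh y hy
        · rw [show w * y * w⁻¹ = w * q₁ * (q₁⁻¹ * y * q₁⁻¹⁻¹) * (w * q₁)⁻¹ by group,
            inv_eq_of_mul_eq_one_left g.q₁_sq]
          exact hself _ hh _ (h1 y hy)
        · rw [show w * y * w⁻¹ = w * q₂ * (q₂⁻¹ * y * q₂⁻¹⁻¹) * (w * q₂)⁻¹ by group,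
            inv_eq_of_mul_eq_one_left g.q₂_sq]
          exact hself _ hh _ (h2 y hy)
        · rw [show w * y * w⁻¹ = w * q₂ * q₁ * (q₁⁻¹ * (q₂⁻¹ * y * q₂⁻¹⁻¹) * q₁⁻¹⁻¹) *
              (w * q₂ * q₁)⁻¹ by group,
            inv_eq_of_mul_eq_one_left g.q₁_sq, inv_eq_of_mul_eq_one_left g.q₂_sq]
          exact hself _ hh _ (h1 _ (h2 y hy))
      intro y hy
      exact ⟨by simpa using hgen x⁻¹ (Q.inv_mem hx) y hy, hgen x hx y hy⟩
    rw [Subgroup.mem_normalizer_iff]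
    intro w
    simp only [hCdef, SetLike.mem_coe, Subgroup.mem_centralizer_iff]
    constructor
    · intro hw y hy
      have := hw _ (hA' y hy).1
      calc y * (x * w * x⁻¹) = x * (x⁻¹ * y * x * w) * x⁻¹ := by group
        _ = x * (w * (x⁻¹ * y * x)) * x⁻¹ := by rw [this]
        _ = x * w * x⁻¹ * y := by group
    · intro hw y hy
      have := hw _ (hA' y hy).2
      calc y * w = x⁻¹ * (x * y * x⁻¹ * (x * w * x⁻¹)) * x := by group
        _ = x⁻¹ * (x * w * x⁻¹ * (x * y * x⁻¹)) * x := by rw [this]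
        _ = w * y := by group
  obtain ⟨c₀, hc₀, hc₀A⟩ := SetLike.not_le_iff_exists.mp h
  have hc₀Q : c₀ ∉ Q := fun hQ => hc₀A (g.mem_A_of_commute hQ
    (Subgroup.mem_centralizer_iff.mp hc₀ _ g.p₁_mem_A).symm
    (Subgroup.mem_centralizer_iff.mp hc₀ _ g.p₂_mem_A).symm)
  set M := C ⊔ Q with hM
  have hlt : Q.subgroupOf M < ⊤ := by
    rw [lt_top_iff_ne_top]
    intro ht
    exact hc₀Q ((Subgroup.subgroupOf_eq_top.mp ht) (Subgroup.mem_sup_left hc₀))
  haveI := (hS.to_subgroup M).isNilpotent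
  obtain ⟨⟨m, hm⟩, hmN, hmQ⟩ :=
    SetLike.exists_of_lt (Group.normalizerCondition_of_isNilpotent _ hlt)
  have hnorm : ∀ x ∈ Q, m * x * m⁻¹ ∈ Q := fun x hx =>
    ((Subgroup.mem_normalizer_iff.mp hmN) ⟨x, Subgroup.mem_sup_right hx⟩).mp hx
  rw [← SetLike.mem_coe, hM, Subgroup.coe_mul_of_right_le_normalizer_left _ _ hQnorm] at hm
  obtain ⟨c, hc, q, hq, hcq⟩ := hm
  have hcq' : c * q = m := hcq
  refine ⟨c, fun hcQ => hmQ ?_, fun x hx => ?_, fun x hx =>
    (Subgroup.mem_centralizer_iff.mp hc x hx).symm⟩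
  · show m ∈ Q
    rw [← hcq']
    exact Q.mul_mem hcQ hq
  · have := hnorm (q⁻¹ * x * q) (Q.mul_mem (Q.mul_mem (Q.inv_mem hq) hx) hq)
    rwa [← hcq', show c * q * (q⁻¹ * x * q) * (c * q)⁻¹ = c * x * c⁻¹ by group] at this

theorem sectional [Finite S] (hS : IsPGroup 2 S) (hC : Subgroup.centralizer (Q : Set S) ≤ Q) :
    Cfsg.SectionalPRankLE 2 4 S := by
  haveI := Fact.mk Nat.prime_two
  have hfin : ∀ g' : ∃ a₁ a₂ b₁ b₂, Gens Q z a₁ a₂ b₁ b₂,
      ∀ A : Subgroup S, Nat.card A = 8 → (∀ a ∈ A, a * a = 1) →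
      (∀ a ∈ A, ∀ b ∈ A, a * b = b * a) → Subgroup.centralizer (A : Set S) ≤ A →
      Cfsg.SectionalPRankLE 2 4 S := fun _ A h8 h2 hc hle =>
    sectional_eight hS A h2 hc h8 (le_antisymm hle fun a ha =>
      Subgroup.mem_centralizer_iff.mpr fun b hb => hc b hb a ha)
  by_cases h1 : Subgroup.centralizer (g.A : Set S) ≤ g.A
  · exact hfin ⟨_, _, _, _, g⟩ g.A g.card_A (fun a ha => g.A_sq ha)
      (fun a ha b hb => (g.A_comm ha hb).eq) h1
  by_cases h2 : Subgroup.centralizer (g.symm.A : Set S) ≤ g.symm.A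
  · exact hfin ⟨_, _, _, _, g⟩ g.symm.A g.symm.card_A (fun a ha => g.symm.A_sq ha)
      (fun a ha b hb => (g.symm.A_comm ha hb).eq) h2
  exfalso
  obtain ⟨a, haQ, han, haA⟩ := g.exists_normalizing hS h1
  obtain ⟨b, hbQ, hbn, hbA⟩ := g.symm.exists_normalizing hS h2
  haveI : Nontrivial S := ⟨⟨z, 1, g.z_ne⟩⟩
  haveI := hS.center_nontrivial
  obtain ⟨⟨t, ht⟩, ht1⟩ := exists_ne (1 : Subgroup.center S)
  have htQ : t ∈ Q := hC (Subgroup.mem_centralizer_iff.mpr fun x _ =>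
    Subgroup.mem_center_iff.mp ht x)
  have htz : t = z := (g.centre_cases htQ fun y _ => Subgroup.mem_center_iff.mp ht y).resolve_left
    fun he => ht1 (Subtype.ext he)
  subst htz
  -- conjugation by `a * b` permutes three classes cyclically
  have hzc : ∀ w, Commute w t := fun w => Subgroup.mem_center_iff.mp ht w
  have ha := g.conj_q₂ hC ht haQ han haA
  have hb := g.symm.conj_q₂ hC ht hbQ hbn hbA
  set M := Subgroup.zpowers t with hM
  haveI : M.Normal := ⟨fun n hn k => by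
    obtain ⟨i, rfl⟩ := Subgroup.mem_zpowers_iff.mp hn
    rw [((hzc k).zpow_right i).eq, mul_inv_cancel_right]
    exact hn⟩
  set π := QuotientGroup.mk' M with hπ
  have hπt : π t = 1 := (QuotientGroup.eq_one_iff t).mpr (Subgroup.mem_zpowers t)
  have hA1 : π a * π q₂ * (π a)⁻¹ = π q₂ * π p₁ := by
    rw [← map_inv, ← map_mul, ← map_mul]
    rcases ha with h | h <;> rw [h]
    · rw [map_mul]
    · rw [map_mul, map_mul, hπt, mul_one]
  have hB1 : π b * π p₁ * (π b)⁻¹ = π p₁ * π q₂ := by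
    rw [← map_inv, ← map_mul, ← map_mul]
    rcases hb with h | h <;> rw [h]
    · rw [map_mul]
    · rw [map_mul, map_mul, hπt, mul_one]
  have hAp : π a * π p₁ * (π a)⁻¹ = π p₁ := by
    rw [← map_inv, ← map_mul, ← map_mul, (haA _ g.p₁_mem_A).eq, mul_inv_cancel_right]
  have hBq : π b * π q₂ * (π b)⁻¹ = π q₂ := by
    rw [← map_inv, ← map_mul, ← map_mul, (hbA _ g.symm.p₁_mem_A).eq, mul_inv_cancel_right]
  have hcomm : π p₁ * π q₂ = π q₂ * π p₁ := by rw [← map_mul, ← map_mul, g.pq.eq]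
  have hq2 : π q₂ * π q₂ = 1 := by rw [← map_mul, g.q₂_sq, map_one]
  have hp2 : π p₁ * π p₁ = 1 := by rw [← map_mul, g.p₁_sq, map_one]
  set k := π (a * b) with hk
  have hkp : k * π p₁ * k⁻¹ = π q₂ := by
    calc k * π p₁ * k⁻¹ = π a * (π b * π p₁ * (π b)⁻¹) * (π a)⁻¹ := by rw [hk, map_mul]; group
      _ = π a * π p₁ * (π a)⁻¹ * (π a * π q₂ * (π a)⁻¹) := by rw [hB1]; group
      _ = π q₂ := by rw [hAp, hA1, ← mul_assoc, hcomm, mul_assoc, hp2, mul_one]
  have hkq : k * π q₂ * k⁻¹ = π q₂ * π p₁ := by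
    calc k * π q₂ * k⁻¹ = π a * (π b * π q₂ * (π b)⁻¹) * (π a)⁻¹ := by rw [hk, map_mul]; group
      _ = π q₂ * π p₁ := by rw [hBq, hA1]
  have hk3 : Commute (k ^ 3) (π p₁) := by
    show k ^ 3 * π p₁ = π p₁ * k ^ 3
    have h1 : k * π p₁ = π q₂ * k := mul_inv_eq_iff_eq_mul.mp hkp
    have h2 : k * π q₂ = π q₂ * π p₁ * k := mul_inv_eq_iff_eq_mul.mp hkq
    have e3 : k ^ 3 = k * k * k := by rw [pow_succ, pow_two]
    rw [e3]
    calc k * k * k * π p₁ = k * (k * (k * π p₁)) := by rw [mul_assoc, mul_assoc]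
      _ = k * ((k * π q₂) * k) := by rw [h1, ← mul_assoc k (π q₂) k]
      _ = k * (π q₂ * π p₁ * k * k) := by rw [h2]
      _ = π q₂ * π p₁ * ((k * π p₁) * (k * k)) := by
          rw [← mul_assoc k, ← mul_assoc k, ← mul_assoc k, h2]
          simp only [mul_assoc]
      _ = π q₂ * π p₁ * π q₂ * (k * k * k) := by rw [h1]; simp only [mul_assoc]
      _ = π p₁ * (k * k * k) := by rw [← hcomm, mul_assoc (π p₁), hq2, mul_one]
  obtain ⟨m, hm⟩ := (hS.to_quotient M) k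
  have hkc : Commute k (π p₁) := by
    have h2 : 2 ^ m % 3 = 1 ∨ 2 ^ m % 3 = 2 := by
      have : ¬ 3 ∣ 2 ^ m := fun hd => by
        have := Nat.le_of_dvd two_pos (Nat.prime_three.dvd_of_dvd_pow hd)
        omega
      omega
    set n := 2 ^ m / 3 with hn
    rcases h2 with h2 | h2
    · have e : k ^ (2 ^ m) = (k ^ 3) ^ n * k := by
        rw [← pow_mul, ← pow_succ]
        congr 1
        omega
      rw [hm] at e
      have hk' : k = ((k ^ 3) ^ n)⁻¹ := eq_inv_of_mul_eq_one_right e.symm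
      rw [hk']
      exact (hk3.pow_left n).inv_left
    · have e : k ^ (2 ^ m * 2) = (k ^ 3) ^ (2 * n + 1) * k := by
        rw [← pow_mul k 3, ← pow_succ k]
        congr 1
        omega
      rw [pow_mul, hm, one_pow] at e
      have hk' : k = ((k ^ 3) ^ (2 * n + 1))⁻¹ := eq_inv_of_mul_eq_one_right e.symm
      rw [hk']
      exact (hk3.pow_left _).inv_left
  have heq : π p₁ = π q₂ := by
    rw [← hkp, hkc.eq, mul_inv_cancel_right]
  have hmem : p₁⁻¹ * q₂ ∈ M := QuotientGroup.eq.mp heq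
  have hAq : q₂ ∈ g.A := by
    have h1 : M ≤ g.A := Subgroup.zpowers_le.mpr g.z_mem_A
    have := mul_mem g.p₁_mem_A (h1 hmem)
    rwa [mul_inv_cancel_left] at this
  exact g.moved g.q₂_sq g.r22 (g.A_comm hAq g.p₂_mem_A)

end Gens

/-- The central product of two quaternion groups has such generators. -/
theorem exists_gens (Q Q₁ Q₂ : Subgroup S) (e₁ : Q₁ ≃* QuaternionGroup 2)
    (e₂ : Q₂ ≃* QuaternionGroup 2) (hcomm : ∀ a ∈ Q₁, ∀ b ∈ Q₂, a * b = b * a)
    (hQ : Q₁ ⊔ Q₂ = Q) (hQ32 : Nat.card Q = 32) :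
    ∃ z p₁ p₂ q₁ q₂, Gens Q z p₁ p₂ q₁ q₂ := by
  let G₁ := Q₁.subtype.comp e₁.symm.toMonoidHom
  let G₂ := Q₂.subtype.comp e₂.symm.toMonoidHom
  let f : QuaternionGroup 2 × QuaternionGroup 2 →* S := MonoidHom.noncommCoprod G₁ G₂
    (fun x y => hcomm _ (e₁.symm x).2 _ (e₂.symm y).2)
  have hf : ∀ x y, f (x, y) = G₁ x * G₂ y := fun x y => rfl
  have hG₁ : Function.Injective G₁ := Q₁.subtype_injective.comp e₁.symm.injective
  have hG₂ : Function.Injective G₂ := Q₂.subtype_injective.comp e₂.symm.injective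
  have hr₁ : G₁.range = Q₁ := by
    rw [MonoidHom.range_comp, MonoidHom.range_eq_top.mpr e₁.symm.surjective,
      ← MonoidHom.range_eq_map, Subgroup.range_subtype]
  have hr₂ : G₂.range = Q₂ := by
    rw [MonoidHom.range_comp, MonoidHom.range_eq_top.mpr e₂.symm.surjective,
      ← MonoidHom.range_eq_map, Subgroup.range_subtype]
  have hrange : f.range = Q := by
    refine le_antisymm ?_ ?_
    · rintro _ ⟨⟨x, y⟩, rfl⟩
      rw [← hQ, hf]
      exact Subgroup.mul_mem_sup (e₁.symm x).2 (e₂.symm y).2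
    · rw [← hQ, ← hr₁, ← hr₂]
      refine sup_le ?_ ?_
      · rintro _ ⟨x, rfl⟩
        exact ⟨(x, 1), by rw [hf, map_one, mul_one]⟩
      · rintro _ ⟨y, rfl⟩
        exact ⟨(1, y), by rw [hf, map_one, one_mul]⟩
  have hker : f.ker ≠ ⊥ := fun hb => by
    have h := f.ker.card_mul_index
    rw [Subgroup.index_ker, hb, Subgroup.card_bot, hrange, hQ32, Nat.card_prod,
      Nat.card_eq_fintype_card, QuaternionGroup.card] at h
    omega
  obtain ⟨⟨u, v⟩, huv, hne⟩ := f.ker.bot_or_exists_ne_one.resolve_left hker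
  have hu : G₁ u * G₂ v = 1 := huv
  have hcen₁ : ∀ x, u * x = x * u := fun x => hG₁ (by
    rw [map_mul, map_mul, eq_inv_of_mul_eq_one_left hu]
    exact (hcomm _ (e₁.symm x).2 _ (Q₂.inv_mem (e₂.symm v).2)).symm)
  have hcen₂ : ∀ x, v * x = x * v := fun x => hG₂ (by
    rw [map_mul, map_mul, eq_inv_of_mul_eq_one_right hu]
    exact hcomm _ (Q₁.inv_mem (e₁.symm u).2) _ (e₂.symm x).2)
  have hQc : ∀ w : QuaternionGroup 2, w * .a 1 = .a 1 * w → w * .xa 0 = .xa 0 * w →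
      w = 1 ∨ w = .a 2 := by decide
  have hu' := hQc u (hcen₁ _) (hcen₁ _)
  have hv' := hQc v (hcen₂ _) (hcen₂ _)
  have hkey : f (.a 2, .a 2) = 1 := by
    rcases hu' with rfl | rfl <;> rcases hv' with rfl | rfl
    · exact absurd rfl hne
    · rw [map_one, one_mul] at hu
      exact absurd (hG₂ (hu.trans (map_one G₂).symm)) (by decide)
    · rw [map_one, mul_one] at hu
      exact absurd (hG₁ (hu.trans (map_one G₁).symm)) (by decide)
    · exact huv
  have hmod : ∀ x y, x = y ∨ x = y * (.a 2, .a 2) → f x = f y := by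
    rintro x y (rfl | rfl)
    · rfl
    · rw [map_mul, hkey, mul_one]
  have hin : ∀ x, f x ∈ Q := fun x => hrange ▸ ⟨x, rfl⟩
  have hone : ∀ x, x = 1 ∨ x = (.a 2, .a 2) → f x = 1 := fun x hx => by
    rw [← map_one f]
    exact hmod x 1 (by rwa [one_mul])
  let p₁ : QuaternionGroup 2 × QuaternionGroup 2 := (.a 1, .a 1)
  let p₂ : QuaternionGroup 2 × QuaternionGroup 2 := (.xa 0, .xa 0)
  let q₁ : QuaternionGroup 2 × QuaternionGroup 2 := (.a 1, .xa 0)
  let q₂ : QuaternionGroup 2 × QuaternionGroup 2 := (.xa 0, .a 1 * .xa 0)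
  let w : QuaternionGroup 2 × QuaternionGroup 2 := (.a 2, 1)
  refine ⟨f w, f p₁, f p₂, f q₁, f q₂, hin _, hin _, hin _, hin _, hin _, hQ32, ?_, ?_, ?_, ?_,
    ?_, ?_, ?_, ?_, ?_, ?_, ?_, ?_, ?_⟩
  · rw [hf, map_one, mul_one]
    exact fun he => absurd (hG₁ (he.trans (map_one G₁).symm)) (by decide)
  · rw [← map_mul]; exact hone _ (by decide)
  · intro x hx
    obtain ⟨y, rfl⟩ := hrange.ge hx
    have hc : ∀ y : QuaternionGroup 2 × QuaternionGroup 2, w * y = y * w := fun y =>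
      Prod.ext ((by decide : ∀ t : QuaternionGroup 2, .a 2 * t = t * .a 2) y.1)
        ((one_mul y.2).trans (mul_one y.2).symm)
    exact (Commute.map (hc y) f :)
  · rw [← map_mul]; exact hone _ (by decide)
  · rw [← map_mul]; exact hone _ (by decide)
  · rw [← map_mul]; exact hone _ (by decide)
  · rw [← map_mul]; exact hone _ (by decide)
  · show f p₁ * f p₂ = f p₂ * f p₁
    rw [← map_mul, ← map_mul]; exact hmod _ _ (by decide)
  · show f q₁ * f q₂ = f q₂ * f q₁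
    rw [← map_mul, ← map_mul]; exact hmod _ _ (by decide)
  · show f p₁ * f q₂ = f q₂ * f p₁
    rw [← map_mul, ← map_mul]; exact hmod _ _ (by decide)
  · rw [← map_mul, ← map_mul, ← map_mul]; exact hmod _ _ (by decide)
  · rw [← map_mul, ← map_mul, ← map_mul]; exact hmod _ _ (by decide)
  · rw [← map_mul, ← map_mul, ← map_mul]; exact hmod _ _ (by decide)

end CfsgLib.SelfCentEight.Plus32
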