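import Cfsg.Agent.Lib.SelfCentEight.Small

/-!
A self-centralising elementary abelian subgroup of order eight against a maximal normal elementary
abelian subgroup.
-/

set_option autoImplicit false
set_option linter.unusedSectionVars false

namespace CfsgLib.SelfCentEight

open CfsgLib.MacWilliams (sqSub mul_self_mem_sqSub sqSub_le sqSub_mono sqSub_le_iff)

universe u

variable {G : Type u} [Group G] [Finite G]

/-- The subgroup of a four-element subgroup. -/
theorem four_elems {K : Subgroup G} (h4 : Nat.card K = 4) {a b : G} (ha : a ∈ K) (hb : b ∈ K)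
    (ha2 : a * a = 1) (h1 : a ≠ 1) (h2 : b ≠ 1) (h3 : a ≠ b) {k : G} (hk : k ∈ K) :
    k = 1 ∨ k = a ∨ k = b ∨ k = a * b := by
  classical
  haveI := Fintype.ofFinite K
  set s : Finset K := {1, ⟨a, ha⟩, ⟨b, hb⟩, ⟨a * b, mul_mem ha hb⟩}
  have hs : s.card = 4 := by
    refine Finset.card_eq_four.2 ⟨_, _, _, _, ?_, ?_, ?_, ?_, ?_, ?_, rfl⟩ <;>
      simp only [ne_eq, Subtype.ext_iff, Subgroup.coe_one]
    · exact fun e => h1 e.symm
    · exact fun e => h2 e.symm
    · exact fun e => h3 (by rw [← inv_eq_of_mul_eq_one_right ha2]; exact inv_eq_of_mul_eq_one_right e.symm)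
    · exact h3
    · exact fun e => h2 (by simpa using e.symm)
    · exact fun e => h1 (by simpa using e.symm)
  have huniv : s = Finset.univ := Finset.eq_univ_of_card _ (by
    rw [hs, Fintype.card_eq_nat_card, h4])
  have : (⟨k, hk⟩ : K) ∈ s := huniv ▸ Finset.mem_univ _
  simpa [s, Subtype.ext_iff] using this

/-- The bound from a central involution modulo `N`. -/
theorem bound_central {N : Subgroup G} (hN : Elem N) [N.Normal] (h16 : Nat.card N ≤ 16)
    (hr : ∀ B : Subgroup (G ⧸ N), Nat.card B ≤ 4 * Nat.card (sqSub B))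
    (c : G) (hcN : c ∉ N) (hc2 : c * c ∈ N) (hcc : (c : G ⧸ N) ∈ Subgroup.center (G ⧸ N))
    (hb4 : ∀ (B : Subgroup G), ∀ b ∈ B, b * c⁻¹ ∈ N →
      Nat.card ↥(B ⊓ N) ≤ 4 * Nat.card ↥(sqSub B ⊓ N))
    (hb8 : ∀ (B : Subgroup G), ∀ b ∈ B, b ∉ N →
      Nat.card ↥(B ⊓ N) ≤ 8 * Nat.card ↥(sqSub B ⊓ N))
    (B : Subgroup G) : Nat.card B ≤ 16 * Nat.card (sqSub B) := by
  have hpos : 0 < Nat.card (sqSub B) := Nat.card_pos
  by_cases hBN : B ≤ N
  · have := (Subgroup.card_le_of_le hBN).trans h16
    omega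
  obtain ⟨b, hbB, hbN⟩ := SetLike.not_le_iff_exists.1 hBN
  set f := QuotientGroup.mk' N
  have hker : f.ker = N := QuotientGroup.ker_mk' N
  by_cases hcB : (c : G ⧸ N) ∈ B.map f
  · obtain ⟨b', hb', hb'c⟩ := hcB
    refine le_of_map f B 4 4 (hr _) (hker.symm ▸ hb4 B b' hb' ?_)
    rw [← QuotientGroup.eq_one_iff, QuotientGroup.mk_mul, QuotientGroup.mk_inv]
    simp only [f, QuotientGroup.mk'_apply] at hb'c
    rw [hb'c, mul_inv_cancel]
  · refine le_of_map f B 2 8 ?_ (hker.symm ▸ hb8 B b hbB hbN)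
    set Z := Subgroup.zpowers (c : G ⧸ N)
    have hcm := fun g => Subgroup.mem_center_iff.1 hcc g
    haveI hZ : Z.Normal := ⟨fun a ha g => by
      rw [Subgroup.mem_center_iff.1 (Subgroup.zpowers_le.2 hcc ha) g, mul_inv_cancel_right]
      exact ha⟩
    have hc1 : (c : G ⧸ N) ≠ 1 := fun h => hcN ((QuotientGroup.eq_one_iff c).1 h)
    have hcsq : (c : G ⧸ N) * c = 1 := by
      rw [← QuotientGroup.mk_mul, QuotientGroup.eq_one_iff]; exact hc2
    have hZmem : ∀ a ∈ Z, a = 1 ∨ a = (c : G ⧸ N) := by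
      intro a ha
      obtain ⟨i, rfl⟩ := Subgroup.mem_zpowers_iff.1 ha
      rcases Int.even_or_odd' i with ⟨k, rfl | rfl⟩
      · left; rw [zpow_mul, zpow_two, hcsq, one_zpow]
      · right; rw [zpow_add, zpow_mul, zpow_two, hcsq, one_zpow, one_mul, zpow_one]
    set B₁ := B.map f ⊔ Z with hB1
    have hsq : sqSub B₁ ≤ sqSub (B.map f) := by
      refine sqSub_le_iff.2 fun g hg => ?_
      obtain ⟨u, hu, a, ha, rfl⟩ := Subgroup.mem_sup_of_normal_right.1 hg
      rcases hZmem a ha with rfl | rfl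
      · simpa using mul_self_mem_sqSub hu
      · rw [show u * (c : G ⧸ N) * (u * c) = u * ((c : G ⧸ N) * u) * c by group, ← hcm u,
          show u * (u * (c : G ⧸ N)) * c = u * u * ((c : G ⧸ N) * c) by group, hcsq, mul_one]
        exact mul_self_mem_sqSub hu
    have h1 := card_eq_map_mul_inf (QuotientGroup.mk' Z) B₁
    have h2 := card_eq_map_mul_inf (QuotientGroup.mk' Z) (B.map f)
    rw [QuotientGroup.ker_mk'] at h1 h2
    rw [hB1, Subgroup.map_sup, QuotientGroup.map_mk'_self, sup_bot_eq, inf_eq_right.2 le_sup_right,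
      show Nat.card Z = 2 by rw [Nat.card_zpowers, orderOf_eq_prime (p := 2) (by rw [pow_two, hcsq]) hc1]] at h1
    have h3 : B.map f ⊓ Z = ⊥ := (Subgroup.eq_bot_iff_forall _).2 fun a ha => by
      rcases hZmem a ha.2 with rfl | rfl
      · rfl
      · exact absurd ha.1 hcB
    rw [h3, Subgroup.card_bot, mul_one] at h2
    have h4 := hr B₁
    have h5 := Subgroup.card_le_of_le hsq
    rw [hB1] at h4 h5
    omega

/-- The data. -/
structure Data (A N : Subgroup G) : Prop where
  pgroup : IsPGroup 2 G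
  aelem : ∀ a ∈ A, a * a = 1
  acomm : ∀ a ∈ A, ∀ b ∈ A, a * b = b * a
  a8 : Nat.card A = 8
  selfc : Subgroup.centralizer (A : Set G) = A
  elem : Elem N
  n8 : 8 ≤ Nat.card N
  nmax : ∀ K : Subgroup G, Elem K → Nat.card K ≤ Nat.card N

namespace Data

variable {A N : Subgroup G} (hD : Data A N)
include hD

theorem mem_A {s : G} (h : ∀ a ∈ A, s * a = a * s) : s ∈ A := by
  rw [← hD.selfc, Subgroup.mem_centralizer_iff]
  exact fun a ha => (h a ha).symm

theorem le_cent : N ≤ Subgroup.centralizer (N : Set G) := fun a ha =>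
  Subgroup.mem_centralizer_iff.2 fun b hb => hD.elem.comm b hb a ha

theorem normal_cent : (Subgroup.centralizer (N : Set G)).Normal := by
  haveI := hD.elem.normal
  infer_instance

theorem comm_C {y n : G} (hy : y ∈ Subgroup.centralizer (N : Set G)) (hn : n ∈ N) :
    y * n = n * y := (Subgroup.mem_centralizer_iff.1 hy n hn).symm

theorem exists_z : ∃ z, z ∈ A ∧ z ∈ N ∧ z ∈ Subgroup.center G ∧ z ≠ 1 ∧ z * z = 1 := by
  haveI := Fact.mk Nat.prime_two
  haveI := hD.elem.normal
  have hne : N ≠ ⊥ := fun h => by have := hD.n8; rw [h, Subgroup.card_bot] at this; omega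
  obtain ⟨z, hz, hzc, hzo⟩ := CfsgLib.PGroup.exists_central_orderOf_eq hD.pgroup N hne
  exact ⟨z, hD.mem_A fun a _ => (Subgroup.mem_center_iff.1 hzc a).symm, hz, hzc,
    fun h => by rw [h, orderOf_one] at hzo; omega, hD.elem.sq z hz⟩

/-- If `A` centralises `N` then `N = A`. -/
theorem eq_of_le (h : A ≤ Subgroup.centralizer (N : Set G)) :
    N = A ∧ Nat.card N = 8 ∧ Subgroup.centralizer (N : Set G) = N := by
  have h1 : N ≤ A := fun n hn => hD.mem_A fun a ha => (hD.comm_C (h ha) hn).symm
  have h2 : N = A := Subgroup.eq_of_le_of_card_ge h1 (hD.a8 ▸ hD.n8)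
  refine ⟨h2, h2 ▸ hD.a8, ?_⟩
  rw [h2, hD.selfc]

variable {t : G} (htA : t ∈ A) (htC : t ∉ Subgroup.centralizer (N : Set G))

include htA in
theorem t_inv : t⁻¹ = t := inv_eq_of_mul_eq_one_right (hD.aelem t htA)

include htA in
theorem t_sq (n : G) : t * t * n = n * (t * t) := by rw [hD.aelem t htA, one_mul, mul_one]

include htA in
/-- A commutator with `t` is inverted by `t`. -/
theorem conj_comm (s : G) :
    t * (t * s * t⁻¹ * s⁻¹) * t⁻¹ = (t * s * t⁻¹ * s⁻¹)⁻¹ := by
  have h1 : t * t = 1 := hD.aelem t htA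
  calc t * (t * s * t⁻¹ * s⁻¹) * t⁻¹ = (t * t) * s * t⁻¹ * s⁻¹ * t⁻¹ := by group
    _ = s * t * s⁻¹ * t⁻¹ := by rw [h1, one_mul, hD.t_inv htA]
    _ = _ := by group

include htA in
theorem comm_fixed {s : G} (h : t * s * t⁻¹ * s⁻¹ ∈ N) :
    t * s * t⁻¹ * s⁻¹ ∈ N ⊓ Subgroup.centralizer ({t} : Set G) := by
  have h1 := hD.conj_comm htA s
  rw [hD.elem.inv_eq h, mul_inv_eq_iff_eq_mul] at h1
  exact ⟨h, mem_cent.2 h1.symm⟩

include htA in
/-- Adjusting inside `N` to commute with `t`. -/
theorem adjust {s n₀ : G} (hn₀ : n₀ ∈ N)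
    (h : t * s * t⁻¹ * s⁻¹ = t * n₀ * t⁻¹ * n₀⁻¹) :
    n₀ * s ∈ Subgroup.centralizer ({t} : Set G) := by
  have hm := hD.elem.comm_mem t hn₀
  rw [mem_cent]
  symm
  rw [← mul_inv_eq_iff_eq_mul]
  calc t * (n₀ * s) * t⁻¹
      = (t * n₀ * t⁻¹ * n₀⁻¹) * n₀ * ((t * s * t⁻¹ * s⁻¹) * s) := by group
    _ = (t * n₀ * t⁻¹ * n₀⁻¹) * n₀ * ((t * n₀ * t⁻¹ * n₀⁻¹) * s) := by rw [h]
    _ = (t * n₀ * t⁻¹ * n₀⁻¹) * (n₀ * (t * n₀ * t⁻¹ * n₀⁻¹)) * s := by group
    _ = (t * n₀ * t⁻¹ * n₀⁻¹) * ((t * n₀ * t⁻¹ * n₀⁻¹) * n₀) * s := by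
      rw [hD.elem.comm _ hn₀ _ hm]
    _ = ((t * n₀ * t⁻¹ * n₀⁻¹) * (t * n₀ * t⁻¹ * n₀⁻¹)) * (n₀ * s) := by group
    _ = n₀ * s := by rw [hD.elem.sq _ hm, one_mul]

/-- The part of `A` in the centralizer of `N`. -/
theorem card_F0_dvd : Nat.card ↥(A ⊓ Subgroup.centralizer (N : Set G)) ∣ 8 :=
  hD.a8 ▸ Subgroup.card_dvd_of_le inf_le_left

include htA htC in
/-- The centraliser of `t` in `C(N)`. -/
theorem basic : Nat.card ↥(N ⊓ Subgroup.centralizer ({t} : Set G)) = 4 ∧
    Subgroup.centralizer (N : Set G) ⊓ Subgroup.centralizer ({t} : Set G) ≤ N ∧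
    ((Nat.card ↥(A ⊓ Subgroup.centralizer (N : Set G)) = 4 ∧
        N ⊓ Subgroup.centralizer ({t} : Set G) = A ⊓ Subgroup.centralizer (N : Set G)) ∨
      Nat.card ↥(A ⊓ Subgroup.centralizer (N : Set G)) = 2) := by
  haveI := Fact.mk Nat.prime_two
  set C := Subgroup.centralizer (N : Set G) with hC
  set F := A ⊓ C with hF
  set E := N ⊓ Subgroup.centralizer ({t} : Set G) with hE
  obtain ⟨z, hzA, hzN, hzc, hz1, hz2⟩ := hD.exists_z
  have hzF : z ∈ F := ⟨hzA, hD.le_cent hzN⟩
  have hF2 : 2 ≤ Nat.card F := two_le_card hzF hz1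
  have hF4 : Nat.card F ≤ 4 := by
    have hne : Nat.card F ≠ 8 := fun h => by
      have he : F = A := Subgroup.eq_of_le_of_card_ge (inf_le_left : A ⊓ C ≤ A)
        (by rw [hF] at h; rw [h, hD.a8])
      exact htC (he.symm ▸ htA : t ∈ F).2
    have hle : Nat.card F ≤ 8 := Nat.le_of_dvd (by norm_num) hD.card_F0_dvd
    rcases card_cases hD.pgroup F with h | h | h | h | h <;> omega
  have hE4 : 4 ≤ Nat.card E := by
    have h := hD.elem.card_le_mul_self t (fun n _ => hD.t_sq htA n)
    have := hD.n8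
    rcases card_cases hD.pgroup E with h' | h' | h' | h' | h'
    · rw [h'] at h; omega
    · rw [h'] at h; omega
    all_goals omega
  have hF24 : Nat.card F = 4 ∨ Nat.card F = 2 := by
    rcases card_cases hD.pgroup F with h | h | h | h | h <;> omega
  rcases hF24 with hc | hc
  · -- `A = F ∪ tF`
    have hgen : ∀ a ∈ A, a ∈ F ∨ t * a ∈ F := by
      intro a ha
      have hidx : (F.subgroupOf A).index = 2 := by
        have h1 := (F.subgroupOf A).card_mul_index
        rw [Nat.card_congr (Subgroup.subgroupOfEquivOfLe inf_le_left).toEquiv, hc, hD.a8] at h1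
        omega
      by_cases haF : a ∈ F
      · exact Or.inl haF
      · refine Or.inr ?_
        have := (Subgroup.mul_mem_iff_of_index_two hidx (a := (⟨t, htA⟩ : A)) (b := ⟨a, ha⟩)).2
          ⟨fun h => absurd h (fun h' => htC h'.2), fun h => absurd h haF⟩
        exact this
    have hsub : C ⊓ Subgroup.centralizer ({t} : Set G) ⊓ Subgroup.centralizer (F : Set G) ≤ F := by
      rintro s ⟨⟨hsC, hst⟩, hsF⟩
      refine ⟨hD.mem_A fun a ha => ?_, hsC⟩
      rcases hgen a ha with h | h
      · exact (Subgroup.mem_centralizer_iff.1 hsF a h).symm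
      · have h1 := (Subgroup.mem_centralizer_iff.1 hsF _ h).symm
        have h2 : a = t * (t * a) := by rw [← mul_assoc, hD.aelem t htA, one_mul]
        rw [h2, ← mul_assoc, mem_cent.1 hst, mul_assoc, h1, ← mul_assoc]
    have hEF : E ≤ F := fun e he => hsub ⟨⟨hD.le_cent he.1, he.2⟩,
      Subgroup.mem_centralizer_iff.2 fun a ha => hD.comm_C ha.2 he.1⟩
    have heq : E = F := Subgroup.eq_of_le_of_card_ge hEF (hc ▸ hE4)
    refine ⟨heq ▸ hc, fun y hy => ?_, Or.inl ⟨hc, heq⟩⟩
    have hyF : y ∈ F := hsub ⟨hy, Subgroup.mem_centralizer_iff.2 fun a ha =>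
      (hD.comm_C hy.1 (heq.symm ▸ ha : a ∈ E).1).symm⟩
    exact (heq.symm ▸ hyF : y ∈ E).1
  · -- `F = ⟨z⟩`, and `A` has a second element outside
    obtain ⟨u, huA, huF, hutF⟩ : ∃ u ∈ A, u ∉ F ∧ t * u ∉ F := by
      by_contra h
      push Not at h
      have hsub : (A : Set G) ⊆ (F : Set G) ∪ (fun a => t * a) '' (F : Set G) := by
        intro a ha
        by_cases haF : a ∈ F
        · exact Or.inl haF
        · exact Or.inr ⟨t * a, h a ha haF, by
            show t * (t * a) = a
            rw [← mul_assoc, hD.aelem t htA, one_mul]⟩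
      have h1 := (Set.ncard_le_ncard hsub (Set.toFinite _)).trans (Set.ncard_union_le _ _)
      rw [Set.ncard_image_of_injective _ (mul_right_injective t), ← Nat.card_coe_set_eq,
        ← Nat.card_coe_set_eq] at h1
      simp only [SetLike.coe_sort_coe] at h1
      rw [hD.a8, hc] at h1
      omega
    have hFeq : ∀ a ∈ F, a = 1 ∨ a = z := by
      intro a ha
      by_contra h
      push Not at h
      have := four_le_card hD.pgroup ha hzF h.1 hz1 h.2
      omega
    have hu2 := hD.aelem u huA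
    have hut : u * t = t * u := hD.acomm u huA t htA
    -- common fixed points
    have hfix : ∀ s ∈ C, s * t = t * s → s * u = u * s → s = 1 ∨ s = z := by
      intro s hsC hst hsu
      refine hFeq s ⟨hD.mem_A fun a ha => ?_, hsC⟩
      -- `A` is generated by `z, t, u`
      have hAgen : A ≤ Subgroup.centralizer ({s} : Set G) := by
        have hle : A ≤ A ⊓ Subgroup.centralizer ({s} : Set G) := by
          have h4 : 4 ≤ Nat.card ↥(A ⊓ Subgroup.centralizer ({s} : Set G)) :=
            four_le_card hD.pgroup ⟨hzA, mem_cent.2 (Subgroup.mem_center_iff.1 hzc s).symm⟩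
              ⟨htA, mem_cent.2 hst.symm⟩ hz1 (fun e => htC (e ▸ one_mem _))
              (fun e => htC (e ▸ hD.le_cent hzN))
          rcases card_cases hD.pgroup (A ⊓ Subgroup.centralizer ({s} : Set G)) with
            h | h | h | h | h
          · omega
          · omega
          · exfalso
            rcases four_elems h ⟨hzA, mem_cent.2 (Subgroup.mem_center_iff.1 hzc s).symm⟩
              ⟨htA, mem_cent.2 hst.symm⟩ hz2 hz1 (fun e => htC (e ▸ one_mem _))
              (fun e => htC (e ▸ hD.le_cent hzN)) (k := u) ⟨huA, mem_cent.2 hsu.symm⟩ with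
              rfl | rfl | rfl | rfl
            · exact huF (one_mem _)
            · exact huF hzF
            · exact hutF (by rw [hD.aelem u huA]; exact one_mem _)
            · refine hutF ?_
              rw [← Subgroup.mem_center_iff.1 hzc t, ← mul_assoc, hD.aelem t htA, one_mul]
              exact hzF
          · exact (Subgroup.eq_of_le_of_card_ge inf_le_left (by rw [h, hD.a8])).ge
          · have := Subgroup.card_le_of_le (inf_le_left :
              A ⊓ Subgroup.centralizer ({s} : Set G) ≤ A)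
            have := hD.a8
            omega
        exact hle.trans inf_le_right
      exact (mem_cent.1 (hAgen ha)).symm
    have huE : ∀ e ∈ E, u * e * u⁻¹ ∈ E := by
      intro e he
      refine ⟨hD.elem.conj_mem u he.1, mem_cent.2 ?_⟩
      have h1 : e * t = t * e := mem_cent.1 he.2
      calc u * e * u⁻¹ * t = u * (e * t) * u⁻¹ := by
            rw [show u * e * u⁻¹ * t = u * e * (u⁻¹ * t) by group,
              show u⁻¹ * t = t * u⁻¹ by rw [inv_eq_of_mul_eq_one_right hu2, hut]]
            group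
        _ = u * (t * e) * u⁻¹ := by rw [h1]
        _ = _ := by
            rw [← mul_assoc, hut]; group
    -- `|E| ≤ 4`
    have hker : Nat.card ↥(E ⊓ Subgroup.centralizer ({u} : Set G)) ≤ 2 := by
      refine (Subgroup.card_le_of_le (fun s hs => ?_)).trans hc.le
      rcases hfix s (hD.le_cent hs.1.1) (mem_cent.1 hs.1.2) (mem_cent.1 hs.2) with rfl | rfl
      · exact one_mem _
      · exact hzF
    have hrange : ∀ e ∈ E, u * e * u⁻¹ * e⁻¹ = 1 ∨ u * e * u⁻¹ * e⁻¹ = z := by
      intro e he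
      have hm : u * e * u⁻¹ * e⁻¹ ∈ E := mul_mem (huE e he) (inv_mem he)
      refine hfix _ (hD.le_cent hm.1) (mem_cent.1 hm.2) ?_
      have h := hD.comm_fixed huA (s := e) hm.1
      exact mem_cent.1 h.2
    have hE4' : Nat.card E = 4 := by
      have h := hD.elem.card_eq_range_mul u E inf_le_left
      have hr2 : Nat.card (hD.elem.delta u E inf_le_left).range ≤ 2 := by
        refine (Subgroup.card_le_of_le ?_).trans hc.le
        rintro _ ⟨e, rfl⟩
        rcases hrange e e.2 with h' | h'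
        · rw [Elem.delta_apply, h']; exact one_mem _
        · rw [Elem.delta_apply, h']; exact hzF
      have := Nat.mul_le_mul hr2 hker
      omega
    refine ⟨hE4', ?_, Or.inr hc⟩
    obtain ⟨e₀, he₀, he₀z⟩ : ∃ e ∈ E, u * e * u⁻¹ * e⁻¹ = z := by
      by_contra h
      push Not at h
      have : E ≤ E ⊓ Subgroup.centralizer ({u} : Set G) := fun e he => ⟨he, mem_cent.2 (by
        have := ((hrange e he).resolve_right (h e he))
        rw [mul_inv_eq_one, mul_inv_eq_iff_eq_mul] at this
        exact this.symm)⟩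
      have := (Subgroup.card_le_of_le this).trans hker
      omega
    -- nothing above `E`
    by_contra hnle
    set D := C ⊓ Subgroup.centralizer ({t} : Set G) with hDdef
    set H := D ⊔ Subgroup.zpowers u with hH
    have hED : E ≤ D := fun e he => ⟨hD.le_cent he.1, he.2⟩
    have hlt : E < D := lt_of_le_of_ne hED fun h => hnle fun y hy => (h.symm ▸ hy : y ∈ E).1
    haveI hCn : C.Normal := hD.normal_cent
    have hDn : ∀ y ∈ D, u * y * u⁻¹ ∈ D := by
      intro y hy
      refine ⟨hCn.conj_mem y hy.1 u, mem_cent.2 ?_⟩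
      have h1 : y * t = t * y := mem_cent.1 hy.2
      calc u * y * u⁻¹ * t = u * (y * t) * u⁻¹ := by
            rw [show u * y * u⁻¹ * t = u * y * (u⁻¹ * t) by group,
              show u⁻¹ * t = t * u⁻¹ by rw [inv_eq_of_mul_eq_one_right hu2, hut]]
            group
        _ = u * (t * y) * u⁻¹ := by rw [h1]
        _ = _ := by rw [← mul_assoc, hut]; group
    -- a conjugation map on cosets with a fixed point
    haveI : (E.subgroupOf H).Normal := by
      refine ⟨fun e he g => ?_⟩
      have hnorm : H ≤ Subgroup.normalizer (E : Set G) := by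
        rw [hH, sup_le_iff, Subgroup.zpowers_le]
        refine ⟨fun y hy => Subgroup.mem_normalizer_iff.2 fun e => ?_,
          Subgroup.mem_normalizer_iff.2 fun e => ?_⟩
        · constructor
          · intro he
            rw [hD.comm_C hy.1 he.1, mul_inv_cancel_right]; exact he
          · intro he
            have h2 := hD.comm_C hy.1 he.1
            have h3 : y * e * y⁻¹ = e := by
              have h4 : y * (y * e * y⁻¹) = (y * e * y⁻¹) * y := h2
              have h5 : y * e * y⁻¹ = e := by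
                have h6 : y * (y * e * y⁻¹) = y * e := by rw [h4]; group
                exact mul_left_cancel h6
              exact h5
            rwa [h3] at he
        · refine ⟨huE e, fun he => ?_⟩
          have := huE _ he
          rwa [inv_eq_of_mul_eq_one_right hu2,
            show u * (u * e * u) * u = (u * u) * e * (u * u) by group, hu2, one_mul, mul_one] at this
      rw [Subgroup.mem_subgroupOf] at he ⊢
      exact (Subgroup.mem_normalizer_iff.1 (hnorm g.2) _).1 he
    have hDnorm : (D.subgroupOf H).Normal := by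
      refine ⟨fun y hy g => ?_⟩
      have hnorm : H ≤ Subgroup.normalizer (D : Set G) := by
        rw [hH, sup_le_iff, Subgroup.zpowers_le]
        refine ⟨Subgroup.le_normalizer, Subgroup.mem_normalizer_iff.2 fun e => ⟨hDn e, fun he => ?_⟩⟩
        have := hDn _ he
        rwa [inv_eq_of_mul_eq_one_right hu2,
          show u * (u * e * u) * u = (u * u) * e * (u * u) by group, hu2, one_mul, mul_one] at this
      rw [Subgroup.mem_subgroupOf] at hy ⊢
      exact (Subgroup.mem_normalizer_iff.1 (hnorm g.2) _).1 hy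
    have hlt' : E.subgroupOf H < D.subgroupOf H := by
      obtain ⟨y, hyD, hyE⟩ := SetLike.exists_of_lt hlt
      exact lt_of_le_of_ne (fun g hg => hED hg) fun h =>
        hyE ((SetLike.ext_iff.1 h ⟨y, Subgroup.mem_sup_left hyD⟩).2 hyD)
    obtain ⟨y, hyD, hyE, -, hyc⟩ :=
      CfsgLib.PGroup.exists_step (hD.pgroup.to_subgroup H) _ _ hlt'
    have h1 : (y : G) * u * (y : G)⁻¹ * u⁻¹ ∈ E :=
      hyc ⟨u, Subgroup.mem_sup_right (Subgroup.mem_zpowers u)⟩
    have h2 : u * (y : G) * u⁻¹ * (y : G)⁻¹ ∈ E := by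
      have := inv_mem h1
      simpa [mul_inv_rev, mul_assoc] using this
    have h3 := hD.comm_fixed huA h2.1
    have hyt : (y : G) * t = t * y := mem_cent.1 hyD.2
    rcases hfix _ (hD.le_cent h2.1) (mem_cent.1 h2.2) (mem_cent.1 h3.2) with h4 | h4
    · -- fixed by `u`
      rcases hfix _ hyD.1 hyt (by
        rw [mul_inv_eq_one, mul_inv_eq_iff_eq_mul] at h4; exact h4.symm) with h5 | h5
      · exact hyE (Subgroup.mem_subgroupOf.2 (by rw [show (y : G) = 1 from h5]; exact one_mem E))
      · exact hyE (Subgroup.mem_subgroupOf.2 (by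
          rw [show (y : G) = z from h5]
          exact ⟨hzN, mem_cent.2 (Subgroup.mem_center_iff.1 hzc t).symm⟩))
    · have h6 : u * (e₀ * y) * u⁻¹ = e₀ * y := by
        have hzm := Subgroup.mem_center_iff.1 hzc
        calc u * (e₀ * y) * u⁻¹
            = (u * e₀ * u⁻¹ * e₀⁻¹) * e₀ * ((u * (y : G) * u⁻¹ * (y : G)⁻¹) * y) := by group
          _ = z * e₀ * (z * y) := by rw [he₀z, h4]
          _ = z * (e₀ * z) * y := by group
          _ = z * (z * e₀) * y := by rw [hzm e₀]
          _ = (z * z) * (e₀ * y) := by group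
          _ = _ := by rw [hz2, one_mul]
      have hm : e₀ * (y : G) ∈ D := mul_mem (hED he₀) hyD
      rw [mul_inv_eq_iff_eq_mul] at h6
      have hk : e₀ * (y : G) ∈ E := by
        rcases hfix _ hm.1 (mem_cent.1 hm.2) h6.symm with h5 | h5
        · exact h5 ▸ one_mem E
        · exact h5 ▸ ⟨hzN, mem_cent.2 (Subgroup.mem_center_iff.1 hzc t).symm⟩
      exact hyE (Subgroup.mem_subgroupOf.2 (by simpa using mul_mem (inv_mem he₀) hk))

end Data

end CfsgLib.SelfCentEight
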